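import Mathlib
import Groth.Prelude.Def_CAlgX

/-!
Jacobian criteria at a prime for an arbitrary family of derivations.
-/

set_option autoImplicit false
universe u v
open IsLocalRing

namespace Groth.Agent.NagataJacLib

/-- An invertible Jacobian minor gives formal smoothness of the quotient at the prime. -/
theorem adic_of_det {k A S : Type u} [CommRing k] [CommRing A] [Algebra k A] (p : Ideal A) [p.IsPrime]
    [CommRing S] [IsLocalRing S] [Algebra k S]
    (hAp : CAlgX.IsAdicFormallySmooth k (Localization.AtPrime p) (maximalIdeal (Localization.AtPrime p)))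
    (π : Localization.AtPrime p →ₐ[k] S) (hπ : Function.Surjective π) {m : ℕ}
    (D : Fin m → Derivation k A A) (f : Fin m → A)
    (hker : RingHom.ker π = Ideal.span (Set.range fun j => algebraMap A (Localization.AtPrime p) (f j)))
    (hdet : Matrix.det (Matrix.of fun i j => D i (f j)) ∉ p) :
    CAlgX.IsAdicFormallySmooth k S (maximalIdeal S) := by
  classical
  intro T _ _ N hN ψ ⟨e, he⟩
  haveI : IsLocalHom π.toRingHom := IsLocalHom.of_surjective _ hπ
  have hle : maximalIdeal (Localization.AtPrime p) ≤ (maximalIdeal S).comap π.toRingHom :=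
    fun z hz h => hz (isUnit_of_map_unit π.toRingHom _ h)
  obtain ⟨χ, hχ⟩ := hAp T N hN (ψ.comp π) ⟨e, fun z hz => he _ (by
    have h1 := Ideal.mem_map_of_mem π.toRingHom hz
    rw [Ideal.map_pow] at h1
    exact Ideal.pow_right_mono (Ideal.map_le_iff_le_comap.2 hle) e h1)⟩
  have hχ' : ∀ z, Ideal.Quotient.mk N (χ z) = ψ (π z) := fun z => AlgHom.congr_fun hχ z
  let χA : A →ₐ[k] T := χ.comp (IsScalarTower.toAlgHom k A (Localization.AtPrime p))
  have hχA : ∀ a, χA a = χ (algebraMap A (Localization.AtPrime p) a) := fun a => rfl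
  have hχf : ∀ j, χA (f j) ∈ N := fun j => by
    have h0 : π (algebraMap A (Localization.AtPrime p) (f j)) = 0 := by
      rw [← RingHom.mem_ker, hker]
      exact Ideal.subset_span ⟨j, rfl⟩
    rw [← Ideal.Quotient.eq_zero_iff_mem, hχA, hχ', h0, map_zero]
  let M : Matrix (Fin m) (Fin m) T := Matrix.of fun i j => χA (D i (f j))
  have hMeq : M = (Matrix.of fun i j => D i (f j)).map χA.toRingHom := rfl
  have hu : IsUnit M.det := by
    rw [hMeq, ← RingHom.mapMatrix_apply, ← RingHom.map_det]
    exact (IsLocalization.map_units (Localization.AtPrime p)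
      (⟨_, hdet⟩ : p.primeCompl)).map χ
  let c : Fin m → T := fun i => -∑ j, χA (f j) * M⁻¹ j i
  have hc : ∀ i, c i ∈ N := fun i => N.neg_mem (Ideal.sum_mem _ fun j _ => Ideal.mul_mem_right _ _ (hχf j))
  have hcf : ∀ l, ∑ i, c i * χA (D i (f l)) = -χA (f l) := by
    intro l
    simp only [c, neg_mul, Finset.sum_neg_distrib, Finset.sum_mul]
    rw [Finset.sum_comm]
    simp only [mul_assoc, ← Finset.mul_sum]
    have h1 : ∀ j, ∑ i, M⁻¹ j i * χA (D i (f l)) = (1 : Matrix (Fin m) (Fin m) T) j l := fun j => by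
      rw [← Matrix.nonsing_inv_mul M hu]
      rfl
    simp [h1, Matrix.one_apply]
  have hNN : ∀ x ∈ N, ∀ y ∈ N, x * y = 0 := fun x hx y hy => by
    have h1 : x * y ∈ N ^ 2 := by rw [pow_two]; exact Ideal.mul_mem_mul hx hy
    rwa [hN, Submodule.mem_bot] at h1
  let δ : A →ₗ[k] T :=
    { toFun := fun a => ∑ i, c i * χA (D i a)
      map_add' := fun a b => by simp only [map_add, mul_add, Finset.sum_add_distrib]
      map_smul' := fun s a => by
        simp only [Derivation.map_smul, map_smul, mul_smul_comm, ← Finset.smul_sum, RingHom.id_apply] }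
  have hδ : ∀ a, δ a = ∑ i, c i * χA (D i a) := fun a => rfl
  have hδN : ∀ a, δ a ∈ N := fun a => (hδ a).symm ▸ Ideal.sum_mem _ fun i _ => Ideal.mul_mem_right _ _ (hc i)
  have hδ1 : δ 1 = 0 := by simp [hδ, Derivation.map_one_eq_zero]
  have hδmul : ∀ a b, δ (a * b) = χA a * δ b + χA b * δ a := fun a b => by
    simp only [hδ, Derivation.leibniz, smul_eq_mul, map_add, map_mul, Finset.mul_sum, ← Finset.sum_add_distrib]
    exact Finset.sum_congr rfl fun i _ => by ring
  let χ₁ : A →ₐ[k] T := AlgHom.ofLinearMap (χA.toLinearMap + δ)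
    (by show χA 1 + δ 1 = 1; rw [hδ1, map_one, add_zero])
    (fun a b => by
      show χA (a * b) + δ (a * b) = (χA a + δ a) * (χA b + δ b)
      rw [hδmul, map_mul]
      linear_combination -(hNN _ (hδN a) _ (hδN b)))
  have hχ₁ : ∀ a, χ₁ a = χA a + δ a := fun a => rfl
  have hu₁ : ∀ s : p.primeCompl, IsUnit (χ₁ s) := fun s => by
    obtain ⟨w, hw⟩ := (IsLocalization.map_units (Localization.AtPrime p) s).map χ
    have h1 : χ₁ (s : A) = w + δ s := by rw [hχ₁, hχA, hw]
    have h2 : IsNilpotent (((w⁻¹ : Tˣ) : T) * δ s) := ⟨2, by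
      rw [pow_two]; exact hNN _ (N.mul_mem_left _ (hδN _)) _ (N.mul_mem_left _ (hδN _))⟩
    have h3 : χ₁ (s : A) = w * (1 + ((w⁻¹ : Tˣ) : T) * δ s) := by
      rw [h1, mul_add, mul_one, ← mul_assoc, Units.mul_inv, one_mul]
    rw [h3]
    exact w.isUnit.mul h2.isUnit_one_add
  let φ : Localization.AtPrime p →ₐ[k] T := IsLocalization.liftAlgHom (f := χ₁) hu₁
  have hφ : ∀ a, φ (algebraMap A _ a) = χ₁ a := fun a => IsLocalization.lift_eq hu₁ a
  have hφker : ∀ z, π z = 0 → φ z = 0 := by
    have h1 : Ideal.span (Set.range fun j => algebraMap A (Localization.AtPrime p) (f j)) ≤ RingHom.ker φ := by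
      rw [Ideal.span_le]
      rintro _ ⟨j, rfl⟩
      show φ (algebraMap A (Localization.AtPrime p) (f j)) = 0
      rw [hφ, hχ₁, hδ, hcf, add_neg_cancel]
    intro z hz
    exact h1 (hker ▸ hz)
  have hφψ : ∀ z, Ideal.Quotient.mk N (φ z) = ψ (π z) := by
    have h1 : ((Ideal.Quotient.mk N).comp φ.toRingHom) = ψ.toRingHom.comp π.toRingHom :=
      IsLocalization.ringHom_ext p.primeCompl (RingHom.ext fun a => by
        show Ideal.Quotient.mk N (φ (algebraMap A _ a)) = ψ (π (algebraMap A _ a))
        rw [hφ, hχ₁, map_add, Ideal.Quotient.eq_zero_iff_mem.2 (hδN a), add_zero, hχA, hχ'])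
    exact fun z => RingHom.congr_fun h1 z
  let e' := Ideal.quotientKerAlgEquivOfSurjective (f := π) hπ
  refine ⟨(Ideal.Quotient.liftₐ (RingHom.ker π) φ fun z hz => hφker z hz).comp e'.symm.toAlgHom,
    AlgHom.ext fun y => ?_⟩
  obtain ⟨z, rfl⟩ := hπ y
  have he' : e'.symm (π z) = Ideal.Quotient.mk _ z := by
    rw [AlgEquiv.symm_apply_eq]; rfl
  show Ideal.Quotient.mk N (Ideal.Quotient.liftₐ (RingHom.ker π) φ (fun z hz => hφker z hz) (e'.symm (π z))) = ψ (π z)
  rw [he']
  exact hφψ z

/-- A family of vectors with no linear relation has an invertible square minor. -/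
theorem exists_minor {K : Type u} [Field K] {ι : Type v} {m : ℕ} (M : ι → Fin m → K)
    (hM : ∀ c : Fin m → K, (∀ i, ∑ j, c j * M i j = 0) → c = 0) :
    ∃ σ : Fin m → ι, (Matrix.of fun a b => M (σ a) b).det ≠ 0 := by
  classical
  have htop : Submodule.span K (Set.range M) = ⊤ := by
    by_contra hne
    obtain ⟨φ, hφ, hφ'⟩ := Submodule.exists_dual_map_eq_bot_of_lt_top (lt_top_iff_ne_top.2 hne) inferInstance
    refine hφ (LinearMap.pi_ext' fun j => LinearMap.ext_ring ?_)
    have h0 := hM (fun j => φ (Pi.single j 1)) fun i => by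
      have h1 : φ (M i) = 0 := by
        have h2 : φ (M i) ∈ (Submodule.span K (Set.range M)).map φ :=
          Submodule.mem_map_of_mem (Submodule.subset_span ⟨i, rfl⟩)
        rwa [hφ', Submodule.mem_bot] at h2
      conv_lhs at h1 => rw [← Finset.univ_sum_single (M i), map_sum]
      rw [← h1]
      refine Finset.sum_congr rfl fun j _ => ?_
      rw [show Pi.single j (M i j) = M i j • (Pi.single j 1 : Fin m → K) by
        rw [← Pi.single_smul', smul_eq_mul, mul_one], map_smul, smul_eq_mul, mul_comm]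
    simpa using congrFun h0 j
  obtain ⟨κ, a, -, hspan, hli⟩ := exists_linearIndependent' K M
  let b : Module.Basis κ K (Fin m → K) := Module.Basis.mk hli (by rw [hspan, htop])
  haveI : Finite κ := Module.Finite.finite_basis b
  haveI := Fintype.ofFinite κ
  have hcard : Fintype.card κ = m := by
    rw [← Module.finrank_eq_card_basis b, Module.finrank_fin_fun]
  let e : Fin m ≃ κ := (Fintype.equivFinOfCardEq hcard).symm
  refine ⟨a ∘ e, ?_⟩
  have hli' : LinearIndependent K fun x => M (a (e x)) := hli.comp e e.injective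
  have h1 : IsUnit (Matrix.of fun x y => M (a (e x)) y) := Matrix.linearIndependent_rows_iff_isUnit.1 hli'
  exact ((Matrix.isUnit_iff_isUnit_det _).1 h1).ne_zero

/-- An ideal of a localization coming from `q` has generators from `q` independent modulo the maximal ideal. -/
theorem exists_min_gens {A : Type u} [CommRing A] [IsNoetherianRing A] (p : Ideal A) [p.IsPrime] (q : Ideal A) :
    ∃ (m : ℕ) (f : Fin m → A), (∀ j, f j ∈ q) ∧
      q.map (algebraMap A (Localization.AtPrime p)) =
        Ideal.span (Set.range fun j => algebraMap A (Localization.AtPrime p) (f j)) ∧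
      ∀ a : Fin m → A, algebraMap A (Localization.AtPrime p) (∑ j, a j * f j) ∈
        maximalIdeal (Localization.AtPrime p) * q.map (algebraMap A (Localization.AtPrime p)) →
        ∀ j, a j ∈ p := by
  classical
  set J := q.map (algebraMap A (Localization.AtPrime p)) with hJ
  let P : ℕ → Prop := fun n => ∃ f : Fin n → A, (∀ j, f j ∈ q) ∧
    J = Ideal.span (Set.range fun j => algebraMap A (Localization.AtPrime p) (f j))
  have hex : ∃ n, P n := by
    obtain ⟨n, g, hg⟩ := Submodule.fg_iff_exists_fin_generating_family.1 (IsNoetherian.noetherian q)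
    refine ⟨n, g, fun j => hg ▸ Submodule.subset_span ⟨j, rfl⟩, ?_⟩
    rw [hJ, ← hg, ← Ideal.span, Ideal.map_span, ← Set.range_comp]
    rfl
  obtain ⟨f, hfq, hfJ⟩ := Nat.find_spec hex
  refine ⟨_, f, hfq, hfJ, fun a ha j => ?_⟩
  by_contra hj
  obtain ⟨n, hn⟩ : ∃ n, Nat.find hex = n + 1 := ⟨_, (Nat.succ_pred_eq_of_pos (Fin.pos j)).symm⟩
  refine Nat.find_min hex (m := n) (by omega) ?_
  let j' : Fin (n + 1) := Fin.cast hn j
  let g : Fin (n + 1) → A := f ∘ Fin.cast hn.symm
  have hg : ∀ i, g (Fin.cast hn i) = f i := fun i => by simp [g]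
  refine ⟨g ∘ j'.succAbove, fun i => hfq _, le_antisymm ?_ ?_⟩
  · refine Submodule.le_of_le_smul_of_le_jacobson_bot (I := maximalIdeal (Localization.AtPrime p))
      (IsNoetherian.noetherian J) (maximalIdeal_le_jacobson _) ?_
    have hrest : ∀ i, i ≠ j → algebraMap A (Localization.AtPrime p) (f i) ∈
        Ideal.span (Set.range fun x => algebraMap A (Localization.AtPrime p) ((g ∘ j'.succAbove) x)) := fun i hi => by
      obtain ⟨z, hz⟩ := Fin.exists_succAbove_eq (x := Fin.cast hn i) (y := j')
        (fun h => hi (Fin.cast_injective _ h))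
      exact Ideal.subset_span ⟨z, by simp [hz, hg]⟩
    conv_lhs => rw [hfJ]
    rw [Ideal.span_le]
    rintro _ ⟨i, rfl⟩
    by_cases hi : i = j
    · subst hi
      obtain ⟨w, hw⟩ := IsLocalization.map_units (Localization.AtPrime p) (⟨_, hj⟩ : p.primeCompl)
      have h1 : algebraMap A (Localization.AtPrime p) (f i) =
          ((w⁻¹ : (Localization.AtPrime p)ˣ) : Localization.AtPrime p) *
            (algebraMap A (Localization.AtPrime p) (∑ j, a j * f j) -
              ∑ l ∈ Finset.univ.erase i, algebraMap A _ (a l) * algebraMap A _ (f l)) := by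
        rw [map_sum, ← Finset.add_sum_erase _ _ (Finset.mem_univ i)]
        simp only [map_mul]
        rw [add_sub_cancel_right, ← mul_assoc, ← show (w : Localization.AtPrime p) = algebraMap A _ (a i) from hw,
          Units.inv_mul, one_mul]
      show algebraMap A (Localization.AtPrime p) (f i) ∈ _
      rw [h1]
      refine Ideal.mul_mem_left _ _ (sub_mem (Submodule.mem_sup_right ?_) (Submodule.mem_sup_left ?_))
      · rwa [smul_eq_mul]
      · exact Ideal.sum_mem _ fun l hl => Ideal.mul_mem_left _ _ (hrest l (Finset.ne_of_mem_erase hl))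
    · exact Submodule.mem_sup_left (hrest i hi)
  · rw [Ideal.span_le]
    rintro _ ⟨i, rfl⟩
    exact Ideal.mem_map_of_mem _ (hfq _)

/-- If derivations detect `q A_p` modulo `p A_p · q A_p`, some Jacobian minor is invertible at `p`. -/
theorem exists_det_of_detect {k A : Type u} [CommRing k] [CommRing A] [Algebra k A] [IsNoetherianRing A]
    {ι : Type v} (D : ι → Derivation k A A) (p : Ideal A) [p.IsPrime] (q : Ideal A) (hqp : q ≤ p)
    (hdet : ∀ x ∈ q, (∀ i, D i x ∈ p) → algebraMap A (Localization.AtPrime p) x ∈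
      maximalIdeal (Localization.AtPrime p) * q.map (algebraMap A (Localization.AtPrime p))) :
    ∃ (m : ℕ) (D' : Fin m → Derivation k A A) (f : Fin m → A), (∀ i, f i ∈ q) ∧
      q.map (algebraMap A (Localization.AtPrime p)) =
        Ideal.span (Set.range fun i => algebraMap A (Localization.AtPrime p) (f i)) ∧
      Matrix.det (Matrix.of fun i j => D' i (f j)) ∉ p := by
  classical
  obtain ⟨m, f, hfq, hfJ, hf⟩ := exists_min_gens p q
  let K := FractionRing (A ⧸ p)
  let ev : A →+* K := (algebraMap (A ⧸ p) K).comp (Ideal.Quotient.mk p)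
  have hev : ∀ a, ev a = 0 ↔ a ∈ p := fun a => by
    rw [← Ideal.Quotient.eq_zero_iff_mem]
    exact map_eq_zero_iff _ (IsFractionRing.injective (A ⧸ p) K)
  obtain ⟨σ, hσ⟩ := exists_minor (fun i j => ev (D i (f j))) fun c hc => by
    obtain ⟨⟨s, hs⟩, hb⟩ :=
      IsLocalization.exist_integer_multiples_of_finite (nonZeroDivisors (A ⧸ p)) c
    choose b hb using hb
    choose a ha using fun j => Ideal.Quotient.mk_surjective (b j)
    have hev' : ∀ j, ev (a j) = algebraMap (A ⧸ p) K s * c j := fun j => by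
      show algebraMap (A ⧸ p) K (Ideal.Quotient.mk p (a j)) = _
      rw [ha, hb, Algebra.smul_def]
    have hx : ∀ i, D i (∑ j, a j * f j) ∈ p := fun i => by
      rw [← hev, map_sum, map_sum]
      refine Eq.trans (Finset.sum_congr rfl fun j _ => ?_) (show ∑ j, algebraMap (A ⧸ p) K s * (c j * ev (D i (f j))) = 0 by
        rw [← Finset.mul_sum, hc, mul_zero])
      rw [Derivation.leibniz, smul_eq_mul, smul_eq_mul, map_add, map_mul, map_mul, hev', (hev _).2 (hqp (hfq j)),
        zero_mul, add_zero, mul_assoc]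
    have h0 := hf a (hdet _ (Ideal.sum_mem _ fun j _ => q.mul_mem_left _ (hfq j)) hx)
    funext j
    refine (mul_eq_zero.1 ((hev' j).symm.trans ((hev _).2 (h0 j)))).resolve_left ?_
    exact IsFractionRing.to_map_ne_zero_of_mem_nonZeroDivisors hs
  refine ⟨m, fun x => D (σ x), f, hfq, hfJ, fun h => hσ ?_⟩
  rw [← hev] at h
  rw [RingHom.map_det] at h
  exact h

end Groth.Agent.NagataJacLib
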