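import Mathlib
import Groth.Agent.PSStructLib.Basic

/-!
Polynomials are dense in power series rings.
-/

set_option autoImplicit false
universe u v
open IsLocalRing

namespace Groth.Agent.NagataJacLib

theorem sub_truncTotal_mem {σ : Type*} {R : Type*} [Finite σ] [CommRing R] (n : ℕ) (f : MvPowerSeries σ R) :
    f - ((MvPowerSeries.truncTotal n f : MvPolynomial σ R) : MvPowerSeries σ R) ∈
      (Ideal.span (Set.range (MvPowerSeries.X : σ → MvPowerSeries σ R))) ^ n := by
  have h2 := PSStructLib.mem_pow_of_truncTotal_eq_zero n (f - ((MvPowerSeries.truncTotal n f : MvPolynomial σ R) : MvPowerSeries σ R)) (by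
    rw [map_sub]
    ext e'
    rw [MvPolynomial.coeff_sub, MvPolynomial.coeff_zero, sub_eq_zero]
    rcases lt_or_ge e'.degree n with hlt | hge
    · rw [MvPowerSeries.coeff_truncTotal _ hlt, MvPowerSeries.coeff_truncTotal _ hlt, MvPolynomial.coeff_coe,
        MvPowerSeries.coeff_truncTotal _ hlt]
    · rw [MvPowerSeries.coeff_truncTotal_eq_zero _ hge, MvPowerSeries.coeff_truncTotal_eq_zero _ hge])
  rw [Ideal.map_pow] at h2
  refine Ideal.pow_right_mono ?_ _ h2
  rw [Ideal.map_span, Ideal.span_le]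
  rintro _ ⟨_, ⟨i, rfl⟩, rfl⟩
  exact Ideal.subset_span ⟨i, by simp [MvPowerSeries.algebraMap_apply']⟩

theorem X_mem_maximalIdeal {σ : Type*} {R : Type*} [CommRing R] [IsLocalRing R] (i : σ) :
    (MvPowerSeries.X i : MvPowerSeries σ R) ∈ maximalIdeal (MvPowerSeries σ R) := by
  rw [mem_maximalIdeal, mem_nonunits_iff]
  intro h
  simpa using MvPowerSeries.isUnit_constantCoeff _ h

theorem eq_zero_of_forall_mem_pow {B : Type*} [CommRing B] [IsLocalRing B] [IsNoetherianRing B] {x : B}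
    (h : ∀ n, x ∈ maximalIdeal B ^ n) : x = 0 := by
  have h1 : x ∈ ⨅ n : ℕ, maximalIdeal B ^ n := Submodule.mem_iInf _ |>.2 h
  rwa [Ideal.iInf_pow_eq_bot_of_isLocalRing _ (maximalIdeal.isMaximal B).ne_top, Submodule.mem_bot] at h1

/-- Algebra maps out of power series are determined by the variables. -/
theorem algHom_ext_X {σ : Type*} {R B : Type*} [Finite σ] [CommRing R] [CommRing B] [IsLocalRing B]
    [IsNoetherianRing B] [Algebra R B] (φ ψ : MvPowerSeries σ R →ₐ[R] B)
    (hX : ∀ i, φ (MvPowerSeries.X i) = ψ (MvPowerSeries.X i))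
    (hm : ∀ i, φ (MvPowerSeries.X i) ∈ maximalIdeal B) : φ = ψ := by
  refine AlgHom.ext fun f => sub_eq_zero.1 (eq_zero_of_forall_mem_pow fun n => ?_)
  have hpoly : φ.comp (MvPolynomial.coeToMvPowerSeries.algHom R) = ψ.comp (MvPolynomial.coeToMvPowerSeries.algHom R) :=
    MvPolynomial.algHom_ext fun i => by simpa using hX i
  have h0 : φ ((MvPowerSeries.truncTotal n f : MvPolynomial σ R) : MvPowerSeries σ R) = ψ ((MvPowerSeries.truncTotal n f : MvPolynomial σ R) : MvPowerSeries σ R) := by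
    simpa [MvPolynomial.coeToMvPowerSeries.algHom_apply] using AlgHom.congr_fun hpoly (MvPowerSeries.truncTotal n f)
  have h1 : ∀ χ : MvPowerSeries σ R →ₐ[R] B, (∀ i, χ (MvPowerSeries.X i) ∈ maximalIdeal B) →
      χ (f - ((MvPowerSeries.truncTotal n f : MvPolynomial σ R) : MvPowerSeries σ R)) ∈ maximalIdeal B ^ n := fun χ hχ => by
    have h2 := Ideal.mem_map_of_mem χ (sub_truncTotal_mem n f)
    rw [Ideal.map_pow, Ideal.map_span] at h2
    refine Ideal.pow_right_mono ?_ _ h2
    rw [Ideal.span_le]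
    rintro _ ⟨_, ⟨i, rfl⟩, rfl⟩
    exact hχ i
  have h3 := sub_mem (h1 φ hm) (h1 ψ fun i => hX i ▸ hm i)
  rwa [map_sub, map_sub, h0, sub_sub_sub_cancel_right] at h3

/-- Ideals of a Noetherian local ring are closed. -/
theorem mem_of_forall_mem_sup_pow {B : Type*} [CommRing B] [IsLocalRing B] [IsNoetherianRing B] (J : Ideal B) {x : B}
    (h : ∀ n, x ∈ J ⊔ maximalIdeal B ^ n) : x ∈ J := by
  have h1 : Ideal.Quotient.mk J x ∈ ⨅ n : ℕ, maximalIdeal B ^ n • (⊤ : Submodule B (B ⧸ J)) := by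
    refine Submodule.mem_iInf _ |>.2 fun n => ?_
    obtain ⟨a, ha, b, hb, rfl⟩ := Submodule.mem_sup.1 (h n)
    rw [map_add, Ideal.Quotient.eq_zero_iff_mem.2 ha, zero_add, ← mul_one b, map_mul, map_one]
    exact Submodule.smul_mem_smul hb (Submodule.mem_top (x := (1 : B ⧸ J)))
  rw [Ideal.iInf_pow_smul_eq_bot_of_isLocalRing _ (maximalIdeal.isMaximal B).ne_top, Submodule.mem_bot] at h1
  exact Ideal.Quotient.eq_zero_iff_mem.1 h1

end Groth.Agent.NagataJacLib
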