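import Mathlib
import Groth.Agent.NagataJacLib.Dense
import Groth.Agent.SopLib.Basic
import Groth.Agent.GrSegreLib.Dim
import Groth.Agent.WildQuotLib.PSReg
import Groth.Agent.RegLocal.Basic

/-!
Noether normalization of complete local domains by chosen parameters.
-/

set_option autoImplicit false
universe u
open IsLocalRing

namespace Groth.Agent.NagataJacLib

/-- Parameters of a complete local domain over a coefficient field make every evaluation map at them finite
and injective. -/
theorem exists_params (K : Type u) {R : Type u} [Field K] [CommRing R] [IsDomain R] [IsLocalRing R]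
    [IsNoetherianRing R] [IsAdicComplete (maximalIdeal R) R] [Algebra K R]
    (hres : Function.Surjective ((residue R).comp (algebraMap K R))) :
    ∃ (s : ℕ) (y : Fin s → R), (∀ i, y i ∈ maximalIdeal R) ∧
      ∀ g : MvPowerSeries (Fin s) K →ₐ[K] R, (∀ i, g (MvPowerSeries.X i) = y i) →
        g.toRingHom.Finite ∧ Function.Injective g ∧
          ∃ t : ℕ, maximalIdeal R ^ t ≤ (maximalIdeal (MvPowerSeries (Fin s) K)).map g.toRingHom := by
  classical
  obtain ⟨d, hd⟩ := RegLocal.exists_nat_ringKrullDim (R := R)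
  obtain ⟨s, y, hy, hrad, hsd⟩ : ∃ (s : ℕ) (y : Fin s → R), (∀ i, y i ∈ maximalIdeal R) ∧
      maximalIdeal R ≤ (Ideal.span (Set.range y)).radical ∧ s ≤ d := by
    by_cases hf : IsField R
    · exact ⟨0, Fin.elim0, fun i => i.elim0, by rw [isField_iff_maximalIdeal_eq.1 hf]; exact bot_le, Nat.zero_le _⟩
    obtain ⟨f, hfm, hf0⟩ : ∃ f ∈ maximalIdeal R, f ≠ 0 :=
      Submodule.exists_mem_ne_zero_of_ne_bot fun h => hf (isField_iff_maximalIdeal_eq.2 h)
    have h1 : 1 ≤ d := by
      by_contra h
      have h0 : ringKrullDim R = 0 := by rw [hd]; norm_num; omega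
      haveI : Ring.KrullDimLE 0 R := Ring.krullDimLE_iff.2 h0.le
      exact hf Ring.KrullDimLE.isField_of_isDomain
    obtain ⟨z, -, hz, hrad⟩ := SopLib.exists_sop_extending hd hfm (fun p hp hfp => hf0 (by
      rw [show p = ⊥ by simpa [IsDomain.minimalPrimes_eq_singleton_bot] using hp] at hfp
      simpa using hfp)) 0
    refine ⟨d - 1 + 1, Fin.snoc z f, fun i => ?_, hrad.trans (Ideal.radical_mono (Ideal.span_mono ?_)), by omega⟩
    · refine Fin.lastCases ?_ (fun j => ?_) i
      · simpa using hfm
      · simpa using hz j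
    · rintro _ (rfl | ⟨i, rfl⟩)
      · exact ⟨Fin.last _, by simp⟩
      · exact ⟨i.castSucc, by simp⟩
  refine ⟨s, y, hy, fun g hg => ?_⟩
  let P := MvPowerSeries (Fin s) K
  letI : Algebra P R := g.toRingHom.toAlgebra
  have hgen : maximalIdeal P = Ideal.span (Set.range MvPowerSeries.X) := WildQuotLib.maximalIdeal_eq ..
  have hmap : (maximalIdeal P).map (algebraMap P R) = Ideal.span (Set.range y) := by
    rw [hgen, Ideal.map_span, ← Set.range_comp]
    exact congrArg Ideal.span (congrArg Set.range (funext hg))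
  have hle : (maximalIdeal P).map (algebraMap P R) ≤ maximalIdeal R := by
    rw [hmap, Ideal.span_le]
    rintro _ ⟨i, rfl⟩
    exact hy i
  obtain ⟨N, hN⟩ := Ideal.exists_radical_pow_le_of_fg _ (Ideal.span (Set.range y)).radical.fg_of_isNoetherianRing
  have hmN : maximalIdeal R ^ N ≤ (maximalIdeal P).map (algebraMap P R) :=
    (Ideal.pow_right_mono hrad N).trans (hN.trans hmap.ge)
  have hspan : ∀ i, ∃ F : Submodule P R, F.FG ∧ (⊤ : Submodule P R) ≤ F ⊔ (maximalIdeal R ^ i).restrictScalars P := by
    intro i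
    induction i with
    | zero => exact ⟨⊥, Submodule.fg_bot, by simp⟩
    | succ i ih =>
      obtain ⟨F, hF, hFle⟩ := ih
      obtain ⟨G, hG⟩ := (maximalIdeal R ^ i).fg_of_isNoetherianRing
      refine ⟨F ⊔ Submodule.span P (G : Set R), hF.sup (Submodule.fg_span G.finite_toSet), hFle.trans ?_⟩
      refine sup_le (le_sup_left.trans le_sup_left) fun z hz => ?_
      rw [Submodule.restrictScalars_mem, ← hG] at hz
      obtain ⟨c, -, rfl⟩ := Submodule.mem_span_finset.1 hz
      refine Submodule.sum_mem _ fun x hx => ?_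
      obtain ⟨l, hl⟩ := hres (residue R (c x))
      rw [smul_eq_mul, show c x * x = algebraMap K R l * x + (c x - algebraMap K R l) * x by ring]
      refine add_mem (Submodule.mem_sup_left (Submodule.mem_sup_right ?_)) (Submodule.mem_sup_right ?_)
      · rw [← g.commutes l]
        exact Submodule.smul_mem _ (algebraMap K P l : P) (Submodule.subset_span hx)
      · rw [Submodule.restrictScalars_mem, pow_succ']
        refine Ideal.mul_mem_mul ?_ (hG ▸ Submodule.subset_span hx)
        rw [← residue_eq_zero_iff, map_sub, sub_eq_zero]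
        exact hl.symm
  haveI : IsHausdorff (maximalIdeal P) R := ⟨fun z hz => by
    refine IsHausdorff.haus (inferInstance : IsHausdorff (maximalIdeal R) R) z fun k => SModEq.zero.2 ?_
    have h1 := SModEq.zero.1 (hz k)
    rw [Ideal.smul_top_eq_map, Submodule.restrictScalars_mem, Ideal.map_pow] at h1
    rw [smul_eq_mul, Ideal.mul_top]
    exact Ideal.pow_right_mono hle k h1⟩
  obtain ⟨F, hF, hFle⟩ := hspan N
  haveI : Module.Finite P F := Module.Finite.iff_fg.2 hF
  haveI hfin : Module.Finite P R := by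
    refine AdicLemmas.module_finite_of_quotient_finite (maximalIdeal P) R ?_
    refine Module.Finite.of_surjective ((maximalIdeal P • ⊤ : Submodule P R).mkQ.comp F.subtype) fun c => ?_
    obtain ⟨z, rfl⟩ := Submodule.mkQ_surjective _ c
    obtain ⟨f, hf, w, hw, rfl⟩ := Submodule.mem_sup.1 (hFle (show z ∈ ⊤ from trivial))
    refine ⟨⟨f, hf⟩, (Submodule.Quotient.eq _).2 ?_⟩
    rw [Ideal.smul_top_eq_map, Submodule.restrictScalars_mem]
    show f - (f + w) ∈ _
    rw [sub_add_cancel_left]
    exact neg_mem (hmN hw)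
  refine ⟨hfin, ?_, N, hmN⟩
  haveI : IsDomain P := NoZeroDivisors.to_isDomain _
  rw [← AlgHom.coe_toRingHom, RingHom.injective_iff_ker_eq_bot, Submodule.eq_bot_iff]
  intro r hr
  by_contra hr0
  let Q := RingHom.ker g.toRingHom
  have hQ : ringKrullDim (P ⧸ Q) = ringKrullDim R := by
    refine GrSegreLib.ringKrullDim_eq_of_integral_injective (RingHom.kerLift g.toRingHom)
      (RingHom.kerLift_injective g.toRingHom) (RingHom.IsIntegral.tower_top (Ideal.Quotient.mk Q) _ ?_)
    exact (algebraMap_isIntegral_iff.2 (Algebra.IsIntegral.of_finite P R) : (algebraMap P R).IsIntegral)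
  have h1 : ringKrullDim (P ⧸ Q) ≤ ringKrullDim (P ⧸ Ideal.span {r}) :=
    ringKrullDim_le_of_surjective (Ideal.Quotient.factor ((Ideal.span_singleton_le_iff_mem Q).2 hr))
      (Ideal.Quotient.factor_surjective _)
  have h2 := ringKrullDim_quotient_succ_le_of_nonZeroDivisor (mem_nonZeroDivisors_of_ne_zero hr0)
  have h3 : (d : WithBot ℕ∞) + 1 ≤ (s : ℕ) := by
    rw [← WildQuotLib.ringKrullDim_eq (k := K) s, ← hd, ← hQ]
    exact (add_le_add h1 le_rfl).trans h2
  have h4 : d + 1 ≤ s := by exact_mod_cast h3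
  omega

end Groth.Agent.NagataJacLib
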