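import Mathlib
import Groth.Agent.J2CompleteLib.Deriv

/-!
Sets of derivations separating `p`-th powers separate absolute differentials.
-/

set_option autoImplicit false
set_option backward.isDefEq.respectTransparency false
universe u
open KaehlerDifferential

namespace Groth.Agent.NagataJacLib

variable {F : Type u} [Field F] (p : ℕ) [Fact p.Prime] [CharP F p]

/-- Sets of derivations closed under the operations of a restricted Lie algebra over `F`. -/
structure IsRestrictedLie (V : Derivation ℤ F F → Prop) : Prop where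
  sub : ∀ δ ε, V δ → V ε → V (δ - ε)
  smul : ∀ (c : F) δ, V δ → V (c • δ)
  bracket : ∀ δ ε, V δ → V ε → V ⁅δ, ε⁆
  pow : ∀ δ E, V δ → (∀ x, E x = δ^[p] x) → V E

/-- What is killed by the members killing `a` is a polynomial in `a` over the common kernel. -/
theorem exists_coeff {V : Derivation ℤ F F → Prop} (hV : IsRestrictedLie p V) {a : F} {δ₁ : Derivation ℤ F F}
    (hδ₁ : V δ₁) (ha : δ₁ a = 1) {x : F} (hx : ∀ δ, V δ → δ a = 0 → δ x = 0) :
    ∃ w : ℕ → F, (∀ i δ, V δ → δ (w i) = 0) ∧ x = ∑ i ∈ Finset.range p, w i * a ^ i := by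
  have hp : p.Prime := Fact.out
  let S : F → Prop := fun z => ∀ δ, V δ → δ z = δ a * δ₁ z
  have hS : ∀ z, (∀ δ, V δ → δ a = 0 → δ z = 0) → S z := fun z hz δ hδ => by
    have h := hz (δ - δ a • δ₁) (hV.sub _ _ hδ (hV.smul _ _ hδ₁)) (by simp [ha])
    simpa [sub_eq_zero] using h
  have hSδ : ∀ z, S z → S (δ₁ z) := by
    intro z hz δ hδ
    have h1 := hz _ (hV.bracket _ _ hδ hδ₁)
    rw [Derivation.commutator_apply, Derivation.commutator_apply, ha, Derivation.map_one_eq_zero,
      hz δ hδ, Derivation.leibniz, smul_eq_mul, smul_eq_mul] at h1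
    linear_combination h1
  have hSit : ∀ n z, S z → S (δ₁^[n] z) := by
    intro n
    induction n with
    | zero => intro z hz; exact hz
    | succ n ih => intro z hz; rw [Function.iterate_succ_apply']; exact hSδ _ (ih z hz)
  obtain ⟨E, hE⟩ := J2CompleteLib.exists_powDerivation p δ₁
  have hEa : E a = 0 := by
    rw [hE, show p = (p - 2) + 1 + 1 by have := hp.two_le; omega, Function.iterate_succ_apply,
      Function.iterate_succ_apply, ha, Derivation.map_one_eq_zero]
    exact Function.iterate_fixed (map_zero δ₁) _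
  have key : ∀ n, n ≤ p → ∀ z, S z → δ₁^[n] z = 0 →
      ∃ w : ℕ → F, (∀ i δ, V δ → δ (w i) = 0) ∧ z = ∑ i ∈ Finset.range n, w i * a ^ i := by
    intro n
    induction n with
    | zero => intro _ z _ h; exact ⟨0, fun i δ _ => map_zero δ, by simpa using h⟩
    | succ n ih =>
      intro hn z hz h
      have hfac : (n.factorial : F) ≠ 0 := fun h0 => by
        rw [CharP.cast_eq_zero_iff F p] at h0
        exact absurd ((Nat.Prime.dvd_factorial hp).1 h0) (by omega)
      let v : F := δ₁^[n] z * (n.factorial : F)⁻¹
      have hv : ∀ δ, V δ → δ v = 0 := fun δ hδ => by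
        simp only [v]
        rw [Derivation.leibniz, Derivation.leibniz_inv, Derivation.map_natCast, smul_zero, smul_zero, zero_add,
          hSit n z hz δ hδ, ← Function.iterate_succ_apply' δ₁ n z, h, mul_zero, smul_zero]
      have hlin : ∀ (b : F) (m : ℕ), δ₁^[m] (v * b) = v * δ₁^[m] b := by
        intro b m
        induction m with
        | zero => rfl
        | succ m ihm =>
          rw [Function.iterate_succ_apply', ihm, Function.iterate_succ_apply', Derivation.leibniz, hv _ hδ₁,
            smul_zero, add_zero, smul_eq_mul]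
      have hsub : ∀ m u t, δ₁^[m] (u - t) = δ₁^[m] u - δ₁^[m] t := by
        intro m
        induction m with
        | zero => simp
        | succ m ihm => intro u t; simp only [Function.iterate_succ_apply', ihm, map_sub]
      have hfa : ∀ m, δ₁^[m] (a ^ m) = (m.factorial : F) ∧ δ₁^[m + 1] (a ^ m) = 0 := by
        intro m
        induction m with
        | zero => simp
        | succ m ihm =>
          have h1 : δ₁ (a ^ (m + 1)) = ((m + 1 : ℕ) : F) * a ^ m := by
            rw [Derivation.leibniz_pow, ha, nsmul_eq_mul, smul_eq_mul, mul_one, Nat.add_sub_cancel]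
          have hnat : ∀ (k : ℕ) (b : F) (j : ℕ), δ₁^[j] ((k : F) * b) = (k : F) * δ₁^[j] b := by
            intro k b j
            induction j with
            | zero => rfl
            | succ j ihj =>
              rw [Function.iterate_succ_apply', ihj, Function.iterate_succ_apply', Derivation.leibniz,
                Derivation.map_natCast, smul_zero, add_zero, smul_eq_mul]
          rw [Function.iterate_succ_apply, Function.iterate_succ_apply, h1, hnat, hnat, ihm.1, ihm.2,
            mul_zero, Nat.factorial_succ, Nat.cast_mul]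
          exact ⟨rfl, rfl⟩
      obtain ⟨c, hck, hc⟩ := ih (by omega) (z - v * a ^ n) (fun δ hδ => by
        simp only [map_sub, Derivation.leibniz, hv δ hδ, hv δ₁ hδ₁, smul_zero, add_zero, smul_eq_mul,
          Derivation.leibniz_pow, ha, hz δ hδ, nsmul_eq_mul]
        ring) (by
        rw [hsub, hlin, (hfa n).1]
        simp only [v]
        rw [mul_assoc, inv_mul_cancel₀ hfac, mul_one, sub_self])
      refine ⟨fun i => if i < n then c i else v, fun i δ hδ => ?_, ?_⟩
      · show δ (if i < n then c i else v) = 0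
        split_ifs
        · exact hck i δ hδ
        · exact hv δ hδ
      rw [Finset.sum_range_succ]
      simp only [lt_irrefl, if_false]
      rw [eq_add_of_sub_eq hc]
      congr 1
      exact Finset.sum_congr rfl fun i hi => by rw [if_pos (Finset.mem_range.1 hi)]
  refine key p le_rfl x (hS x hx) ?_
  rw [← hE]
  exact hx E (hV.pow _ _ hδ₁ hE) hEa

variable {p}

/-- Independent differentials have dual derivations, and the kernel relative to them is as small as possible. -/
theorem exists_dual {V : Derivation ℤ F F → Prop} (hV : IsRestrictedLie p V)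
    (hker : ∀ x, (∀ δ, V δ → δ x = 0) → ∃ y, y ^ p = x) :
    ∀ (j : ℕ) (a : Fin j → F), LinearIndependent F (fun i => D ℤ F (a i)) →
      (∃ δ : Fin j → Derivation ℤ F F, (∀ i, V (δ i)) ∧ ∀ i l, δ i (a l) = if i = l then 1 else 0) ∧
      ∀ x, (∀ δ, V δ → (∀ l, δ (a l) = 0) → δ x = 0) → D ℤ F x ∈ Submodule.span F (Set.range fun i => D ℤ F (a i)) := by
  classical
  intro j
  induction j with
  | zero =>
    intro a _
    refine ⟨⟨fun i => i.elim0, fun i => i.elim0, fun i => i.elim0⟩, fun x hx => ?_⟩
    obtain ⟨y, rfl⟩ := hker x fun δ hδ => hx δ hδ fun l => l.elim0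
    rw [Derivation.leibniz_pow, ← Nat.cast_smul_eq_nsmul F, CharP.cast_eq_zero, zero_smul]
    exact zero_mem _
  | succ j ih =>
    intro a ha
    obtain ⟨⟨δ, hδV, hδ⟩, hspan⟩ := ih (a ∘ Fin.castSucc) (ha.comp _ (Fin.castSucc_injective _))
    obtain ⟨ε, hεV, hεa, hεb⟩ : ∃ ε, V ε ∧ (∀ l, ε ((a ∘ Fin.castSucc) l) = 0) ∧ ε (a (Fin.last j)) ≠ 0 := by
      by_contra hcon
      push Not at hcon
      have h1 := hspan (a (Fin.last j)) hcon
      refine linearIndependent_iff_notMem_span.1 ha (Fin.last j) (Submodule.span_mono ?_ h1)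
      rintro _ ⟨l, rfl⟩
      exact ⟨Fin.castSucc l, ⟨Set.mem_univ _, Fin.castSucc_ne_last l⟩, rfl⟩
    set b := a (Fin.last j) with hb
    let ε₁ : Derivation ℤ F F := (ε b)⁻¹ • ε
    have hε₁ : ε₁ b = 1 := by simp [ε₁, inv_mul_cancel₀ hεb]
    have hε₁a : ∀ l, ε₁ ((a ∘ Fin.castSucc) l) = 0 := fun l => by
      simp only [ε₁, Derivation.smul_apply, hεa l, smul_zero]
    refine ⟨⟨Fin.lastCases ε₁ fun i => δ i - δ i b • ε₁, fun i => ?_, fun i l => ?_⟩, fun x hx => ?_⟩
    · induction i using Fin.lastCases with
      | last => simpa using hV.smul _ _ hεV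
      | cast i => simpa using hV.sub _ _ (hδV i) (hV.smul _ _ (hV.smul _ _ hεV))
    · induction i using Fin.lastCases with
      | last =>
        induction l using Fin.lastCases with
        | last => simpa using hε₁
        | cast l =>
          simp only [Fin.lastCases_last, (Fin.castSucc_ne_last l).symm, if_false]
          exact hε₁a l
      | cast i =>
        induction l using Fin.lastCases with
        | last => simp [← hb, hε₁, Fin.castSucc_ne_last]
        | cast l =>
          have h1 := hε₁a l
          have h2 := hδ i l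
          simp only [Function.comp_apply] at h1 h2
          simp [h1, h2, Fin.castSucc_inj]
    · let V' : Derivation ℤ F F → Prop := fun δ => V δ ∧ ∀ l, δ ((a ∘ Fin.castSucc) l) = 0
      have hV' : IsRestrictedLie p V' :=
        { sub := fun δ ε h1 h2 => ⟨hV.sub _ _ h1.1 h2.1, fun l => by rw [Derivation.sub_apply, h1.2, h2.2, sub_zero]⟩
          smul := fun c δ h1 => ⟨hV.smul _ _ h1.1, fun l => by rw [Derivation.smul_apply, h1.2, smul_zero]⟩
          bracket := fun δ ε h1 h2 => ⟨hV.bracket _ _ h1.1 h2.1, fun l => by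
            rw [Derivation.commutator_apply, h1.2, h2.2, map_zero, map_zero, sub_zero]⟩
          pow := fun δ E h1 hE => ⟨hV.pow _ _ h1.1 hE, fun l => by
            rw [hE, show p = (p - 1) + 1 by have := (Fact.out : p.Prime).two_le; omega,
              Function.iterate_succ_apply, h1.2]
            exact Function.iterate_fixed (map_zero δ) _⟩ }
      obtain ⟨w, hw, rfl⟩ := exists_coeff p hV' (δ₁ := ε₁) ⟨hV.smul _ _ hεV, hε₁a⟩ hε₁
        (fun δ hδ hδb => hx δ hδ.1 fun l => by
          induction l using Fin.lastCases with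
          | last => exact hδb
          | cast l => exact hδ.2 l)
      rw [map_sum]
      refine Submodule.sum_mem _ fun i _ => ?_
      rw [Derivation.leibniz, Derivation.leibniz_pow, ← Nat.cast_smul_eq_nsmul F]
      refine add_mem (Submodule.smul_mem _ _ (Submodule.smul_mem _ _ (Submodule.smul_mem _ _
        (Submodule.subset_span ⟨Fin.last j, rfl⟩)))) (Submodule.smul_mem _ _ (Submodule.span_mono ?_
        (hspan (w i) fun δ hδ hδa => hw i δ ⟨hδ, hδa⟩)))
      rintro _ ⟨l, rfl⟩
      exact ⟨_, rfl⟩

/-- A separating restricted Lie algebra of derivations separates differentials. -/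
theorem eq_zero_of_killed {V : Derivation ℤ F F → Prop} (hV : IsRestrictedLie p V)
    (hker : ∀ x, (∀ δ, V δ → δ x = 0) → ∃ y, y ^ p = x)
    (θ : Ω[F⁄ℤ]) (hθ : ∀ δ : Derivation ℤ F F, V δ → δ.liftKaehlerDifferential θ = 0) : θ = 0 := by
  classical
  have hmem : θ ∈ Submodule.span F (Set.range (D ℤ F)) := by
    rw [KaehlerDifferential.span_range_derivation]; trivial
  obtain ⟨T, hT, hθT⟩ := Submodule.mem_span_finite_of_mem_span hmem
  choose x hx using fun t : T => hT t.2
  obtain ⟨κ, a, ha, hspan, hli⟩ := exists_linearIndependent' F fun t : T => (t : Ω[F⁄ℤ])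
  haveI : Finite κ := Finite.of_injective a ha
  obtain ⟨n, ⟨e⟩⟩ := Finite.exists_equiv_fin κ
  let y : Fin n → F := fun i => x (a (e.symm i))
  have hy : (fun i => D ℤ F (y i)) = (fun t : T => (t : Ω[F⁄ℤ])) ∘ a ∘ e.symm := funext fun i => hx _
  obtain ⟨⟨δ, hδV, hδ⟩, -⟩ := exists_dual hV hker n y (by rw [hy]; exact hli.comp _ e.symm.injective)
  have hθy : θ ∈ Submodule.span F (Set.range fun i => D ℤ F (y i)) := by
    rw [hy, ← Function.comp_assoc, Set.range_comp _ e.symm, e.symm.range_eq_univ, Set.image_univ, hspan]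
    simpa using hθT
  obtain ⟨c, rfl⟩ := (Submodule.mem_span_range_iff_exists_fun F).1 hθy
  refine Finset.sum_eq_zero fun i _ => ?_
  have h1 := hθ (δ i) (hδV i)
  simp only [map_sum, map_smul, Derivation.liftKaehlerDifferential_comp_D, hδ, smul_eq_mul, mul_ite, mul_one,
    mul_zero, Finset.sum_ite_eq, Finset.mem_univ, if_true] at h1
  rw [h1, zero_smul]

end Groth.Agent.NagataJacLib
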