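import Mathlib
import Groth.Agent.J2CompleteLib.Main
import Groth.Agent.NagataJacLib.SepDer
import Groth.Agent.NagataJacLib.Normalization
import Groth.Agent.FiniteCompleteLib.Basic
import Groth.Agent.ArtFunLib.PS

/-!
Derivations of a power series ring over a field of characteristic `p` detect absolute differentials at
every prime.
-/

set_option autoImplicit false
set_option backward.isDefEq.respectTransparency false
set_option maxHeartbeats 1000000
universe u
open IsLocalRing TensorProduct

namespace Groth.Agent.NagataJacLib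

attribute [local instance high] Ring.toIntAlgebra

local instance {σ k : Type*} [CommRing k] [IsDomain k] : IsDomain (MvPowerSeries σ k) :=
  NoZeroDivisors.to_isDomain _

theorem der_ext_of_isFrac {P F : Type u} [CommRing P] [Nontrivial P] [Field F] [Algebra P F] [IsFractionRing P F]
    {δ ε : Derivation ℤ F F} (h : ∀ a, δ (algebraMap P F a) = ε (algebraMap P F a)) : δ = ε := by
  ext z
  obtain ⟨⟨a, b⟩, hab⟩ := IsLocalization.surj (nonZeroDivisors P) z
  have h1 := congrArg δ hab
  have h2 := congrArg ε hab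
  simp only [Derivation.leibniz, smul_eq_mul, h] at h1 h2
  have hb : algebraMap P F b ≠ 0 := IsFractionRing.to_map_ne_zero_of_mem_nonZeroDivisors b.2
  exact mul_left_cancel₀ hb (by linear_combination h1 - h2)

/-- The derivations of `k[[X]]` separate the differentials of its fraction field. -/
theorem eq_zero_of_powerSeries_derivations {k : Type u} [Field k] (p : ℕ) [Fact p.Prime] [CharP k p] (n : ℕ)
    {F : Type u} [Field F] [Algebra (MvPowerSeries (Fin n) k) F] [IsFractionRing (MvPowerSeries (Fin n) k) F]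
    [CharP F p] (θ : Ω[F⁄ℤ])
    (hθ : ∀ (δ : Derivation ℤ (MvPowerSeries (Fin n) k) (MvPowerSeries (Fin n) k)) (δ' : Derivation ℤ F F),
      (∀ a, δ' (algebraMap _ F a) = algebraMap _ F (δ a)) → δ'.liftKaehlerDifferential θ = 0) : θ = 0 := by
  set P := MvPowerSeries (Fin n) k
  let Dm := (algebraMap P F).range
  obtain ⟨-, hD, hsep, -⟩ := J2CompleteLib.good_powerSeries k p n F
  have hinj := IsFractionRing.injective P F
  have hit : ∀ δ : Derivation ℤ F F, J2CompleteLib.Bdd Dm δ → ∀ m, J2CompleteLib.Bdd Dm fun z => δ^[m] z := by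
    intro δ hδ m
    induction m with
    | zero => exact J2CompleteLib.Bdd.id'
    | succ m ih => simpa only [Function.iterate_succ_apply'] using hδ.comp ih
  have hV : IsRestrictedLie p fun δ : Derivation ℤ F F => J2CompleteLib.Bdd Dm δ :=
    { sub := fun δ ε h1 h2 => (h1.sub h2).congr fun z => rfl
      smul := fun c δ h1 => (h1.smul hD c).congr fun z => rfl
      bracket := fun δ ε h1 h2 => ((h1.comp h2).sub (h2.comp h1)).congr fun z => (Derivation.commutator_apply z).symm
      pow := fun δ E h1 hE => by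
        have := hit δ h1 p
        simpa only [← hE] using this }
  refine eq_zero_of_killed hV hsep θ ?_
  rintro δ ⟨g, hg, hg0, hgδ⟩
  choose F₀ hF₀ using fun a => hgδ (algebraMap P F a) ⟨a, rfl⟩
  let δ₀ : Derivation ℤ P P := J2CompleteLib.mkDer F₀
    (fun x y => hinj (by rw [map_add, hF₀, hF₀, hF₀, map_add, map_add, mul_add]))
    fun x y => hinj (by
      rw [map_add, map_mul, map_mul, hF₀, hF₀, hF₀, map_mul, Derivation.leibniz, smul_eq_mul, smul_eq_mul]; ring)
  have h1 := hθ δ₀ (g • δ) fun a => (hF₀ a).symm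
  have h2 : (g • δ).liftKaehlerDifferential = g • δ.liftKaehlerDifferential :=
    Derivation.liftKaehlerDifferential_unique _ _ (by ext x; simp)
  rw [h2, LinearMap.smul_apply, smul_eq_mul] at h1
  exact (mul_eq_zero.1 h1).resolve_left hg0

/-- Derivations detect differentials at a prime whose residue field is algebraic over power series coordinates. -/
theorem detect_core {P A L F : Type u} [CommRing P] [IsLocalRing P] [IsNoetherianRing P] [CommRing A]
    [Algebra P A] [Field L] [Algebra A L] [Algebra P L] [IsScalarTower P A L] [Field F] [Algebra P F]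
    [IsFractionRing P F] [Algebra F L] [IsScalarTower P F L] {r : ℕ} (T : Fin r → A)
    (πA : MvPowerSeries (Fin r) P →ₐ[P] A) (hπA : ∀ i, πA (MvPowerSeries.X i) = T i)
    (σ : A →+* MvPowerSeries (Fin r) P) (hsection : ∀ a, πA (σ a) = a)
    (hgen : ∀ a, ∃ q : MvPolynomial (Fin r) P,
      algebraMap A L (πA (q : MvPowerSeries (Fin r) P)) = algebraMap A L a)
    (hsep : ∀ θ : Ω[F⁄ℤ], (∀ (δ : Derivation ℤ P P) (δ' : Derivation ℤ F F),
      (∀ a, δ' (algebraMap P F a) = algebraMap P F (δ a)) → δ'.liftKaehlerDifferential θ = 0) → θ = 0)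
    {ι : Type*} [Fintype ι] (c : ι → L) (x : ι → A)
    (h : ∀ D : Derivation ℤ A A, ∑ i, c i * algebraMap A L (D (x i)) = 0) :
    ∑ i, c i ⊗ₜ[A] KaehlerDifferential.D ℤ A (x i) = (0 : L ⊗[A] Ω[A⁄ℤ]) := by
  classical
  -- differentials
  let π := algebraMap A L
  let C := MvPowerSeries (Fin r) P
  let B := MvPolynomial (Fin r) P
  let toC : B →ₐ[P] C := MvPolynomial.coeToMvPowerSeries.algHom P
  have htoC : ∀ q, toC q = (q : C) := fun q => by
    show MvPowerSeries.map (algebraMap P P) (q : C) = _
    ext m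
    simp [MvPowerSeries.coeff_map]
  let U := L ⊗[A] Ω[A⁄ℤ]
  let dA : A → U := fun a => (1 : L) ⊗ₜ[A] KaehlerDifferential.D ℤ A a
  have hdAadd : ∀ a b, dA (a + b) = dA a + dA b := fun a b => by
    show (1 : L) ⊗ₜ[A] KaehlerDifferential.D ℤ A (a + b) = _
    rw [map_add, tmul_add]
  have hdAmul : ∀ a b, dA (a * b) = π a • dA b + π b • dA a := fun a b => by
    show (1 : L) ⊗ₜ[A] KaehlerDifferential.D ℤ A (a * b) = _
    rw [Derivation.leibniz, tmul_add, tmul_smul, tmul_smul, ← algebraMap_smul L a, ← algebraMap_smul L b]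
  let dP : Derivation ℤ P U := Derivation.mk'
    (AddMonoidHom.mk' (fun a => dA (algebraMap P A a)) fun a b => by rw [map_add, hdAadd]).toIntLinearMap
    fun a b => by
      show dA (algebraMap P A (a * b)) = a • dA (algebraMap P A b) + b • dA (algebraMap P A a)
      rw [map_mul, hdAmul, ← algebraMap_smul L a, ← algebraMap_smul L b, IsScalarTower.algebraMap_apply P A L a,
        IsScalarTower.algebraMap_apply P A L b]
  haveI : Algebra.FormallyEtale P F := Algebra.FormallyEtale.of_isLocalization (nonZeroDivisors P)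
  have hbc := KaehlerDifferential.isBaseChange_of_formallyEtale ℤ P F
  let lam : L ⊗[F] Ω[F⁄ℤ] →ₗ[L] U := (hbc.lift dP.liftKaehlerDifferential).liftBaseChange L
  let pair : Derivation ℤ F F → (L ⊗[F] Ω[F⁄ℤ] →ₗ[L] L) := fun δ' =>
    (Algebra.linearMap F L ∘ₗ δ'.liftKaehlerDifferential).liftBaseChange L
  haveI : Algebra.FormallySmooth P F := Algebra.FormallySmooth.of_isLocalization (nonZeroDivisors P)
  choose extF hextF using fun δ : Derivation ℤ P P => J2CompleteLib.exists_ext_derToAlg (L := F) δ
  choose extC hextC using fun δ : Derivation ℤ P P => J2CompleteLib.exists_coeffDer (σ := Fin r) δ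
  let piL : C → L := fun z => π (πA z)
  have hpimul : ∀ z w, piL (z * w) = piL z * piL w := fun z w => by simp [piL]
  have hpiadd : ∀ z w, piL (z + w) = piL z + piL w := fun z w => by simp [piL]
  let dC : C → U := fun z => dA (πA z)
  have hdCmul : ∀ z w, dC (z * w) = piL z • dC w + piL w • dC z := fun z w => by
    simp only [dC, piL, map_mul, hdAmul]
  let u : Fin r → U := fun i => dA (T i)
  let Good : C → Prop := fun z => ∃ (e : Fin r → L) (θ : L ⊗[F] Ω[F⁄ℤ]),
    dC z = ∑ i, e i • u i + lam θ ∧ (∀ i, piL (MvPowerSeries.pderiv P i z) = e i) ∧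
      ∀ δ, piL (extC δ z) = pair (extF δ) θ
  have gC : ∀ a, Good (algebraMap P C a) := fun a => by
    refine ⟨0, 1 ⊗ₜ[F] KaehlerDifferential.D ℤ F (algebraMap P F a), ?_, fun i => ?_, fun δ => ?_⟩
    · simp only [Pi.zero_apply, zero_smul, Finset.sum_const_zero, zero_add, lam, LinearMap.liftBaseChange_tmul,
        one_smul]
      rw [← KaehlerDifferential.map_D ℤ ℤ P F, IsBaseChange.lift_eq, Derivation.liftKaehlerDifferential_comp_D]
      show dA (πA (algebraMap P C a)) = dA (algebraMap P A a)
      rw [πA.commutes]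
    · show π (πA (MvPowerSeries.pderiv P i (algebraMap P C a))) = 0
      rw [Derivation.map_algebraMap, map_zero, map_zero]
    · simp only [pair, LinearMap.liftBaseChange_tmul, one_smul, LinearMap.comp_apply,
        Derivation.liftKaehlerDifferential_comp_D, hextF, Algebra.linearMap_apply]
      have hEC : extC δ (algebraMap P C a) = algebraMap P C (δ a) := by
        rw [← MvPowerSeries.c_eq_algebraMap]
        ext m
        rw [hextC, MvPowerSeries.coeff_C, MvPowerSeries.coeff_C]
        split_ifs <;> simp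
      rw [hEC, ← IsScalarTower.algebraMap_apply P F L]
      show π (πA (algebraMap P C (δ a))) = _
      rw [show πA (algebraMap P C (δ a)) = algebraMap P A (δ a) from πA.commutes _]
      exact (IsScalarTower.algebraMap_apply P A L _).symm
  have gX : ∀ i, Good (MvPowerSeries.X i) := fun i => by
    refine ⟨Pi.single i 1, 0, ?_, fun l => ?_, fun δ => ?_⟩
    · rw [map_zero, add_zero, Finset.sum_eq_single i (fun l _ hl => by rw [Pi.single_eq_of_ne hl, zero_smul])
        (fun hi => absurd (Finset.mem_univ i) hi), Pi.single_eq_same, one_smul]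
      simp only [dC, u, hπA]
    · by_cases hl : l = i
      · subst hl; simp [piL, MvPowerSeries.pderiv_X_self]
      · simp [piL, MvPowerSeries.pderiv_X_of_ne (Ne.symm hl), hl]
    · have hE : extC δ (MvPowerSeries.X i) = 0 := by
        ext m
        rw [hextC, MvPowerSeries.coeff_X]
        split_ifs <;> simp
      simp [hE, piL]
  have gadd : ∀ z w, Good z → Good w → Good (z + w) := by
    rintro z w ⟨e, θ, h1, h2, h3⟩ ⟨e', θ', h1', h2', h3'⟩
    refine ⟨e + e', θ + θ', ?_, fun i => ?_, fun δ => ?_⟩
    · simp only [dC] at h1 h1' ⊢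
      rw [map_add πA, hdAadd, h1, h1', map_add]
      simp only [Pi.add_apply, add_smul, Finset.sum_add_distrib]
      abel
    · rw [map_add, hpiadd, h2, h2']; rfl
    · rw [map_add, hpiadd, h3, h3', map_add]
  have gmul : ∀ z w, Good z → Good w → Good (z * w) := by
    rintro z w ⟨e, θ, h1, h2, h3⟩ ⟨e', θ', h1', h2', h3'⟩
    refine ⟨piL z • e' + piL w • e, piL z • θ' + piL w • θ, ?_, fun i => ?_, fun δ => ?_⟩
    · rw [hdCmul, h1, h1']
      simp only [Pi.add_apply, Pi.smul_apply, smul_eq_mul, add_smul, Finset.sum_add_distrib, map_add, map_smul,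
        smul_add, Finset.smul_sum, smul_smul]
      abel
    · rw [Derivation.leibniz, smul_eq_mul, smul_eq_mul, hpiadd, hpimul, hpimul, h2, h2']; rfl
    · rw [Derivation.leibniz, smul_eq_mul, smul_eq_mul, hpiadd, hpimul, hpimul, h3, h3', map_add, map_smul,
        map_smul]
      rfl
  have gpoly : ∀ q : B, Good (toC q) := fun q => by
    induction q using MvPolynomial.induction_on with
    | C a =>
      rw [show MvPolynomial.C a = algebraMap P B a from rfl, AlgHom.commutes]
      exact gC a
    | add q q' h1 h2 => rw [map_add]; exact gadd _ _ h1 h2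
    | mul_X q i h1 =>
      rw [map_mul, show toC (MvPolynomial.X i) = MvPowerSeries.X i by rw [htoC, MvPolynomial.coe_X]]
      exact gmul _ _ h1 (gX i)
  let ρ : B →+* L := π.comp (πA.toRingHom.comp toC.toRingHom)
  let 𝔓 := RingHom.ker ρ
  have gker : ∀ w ∈ 𝔓.map toC.toRingHom, Good w ∧ piL w = 0 := by
    intro w hw
    rw [Ideal.map] at hw
    induction hw using Submodule.span_induction with
    | mem z hz =>
      obtain ⟨b, hb, rfl⟩ := hz
      exact ⟨gpoly b, hb⟩
    | zero => exact ⟨by simpa using gC 0, by simp [piL]⟩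
    | add z w _ _ hz hw => exact ⟨gadd _ _ hz.1 hw.1, by rw [hpiadd, hz.2, hw.2, add_zero]⟩
    | smul v z _ hz =>
      obtain ⟨⟨e, θ, h1, h2, h3⟩, h0⟩ := hz
      rw [smul_eq_mul]
      refine ⟨⟨piL v • e, piL v • θ, ?_, fun i => ?_, fun δ => ?_⟩, by rw [hpimul, h0, mul_zero]⟩
      · rw [hdCmul, h0, zero_smul, add_zero, h1]
        simp only [Pi.smul_apply, smul_eq_mul, map_smul, smul_add, Finset.smul_sum, smul_smul]
      · rw [Derivation.leibniz, smul_eq_mul, smul_eq_mul, hpiadd, hpimul, hpimul, h2, h0, zero_mul, add_zero]; rfl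
      · rw [Derivation.leibniz, smul_eq_mul, smul_eq_mul, hpiadd, hpimul, hpimul, h3, h0, zero_mul, add_zero,
          map_smul]
        rfl
  have gall : ∀ z, Good z := by
    intro z
    obtain ⟨q, hq⟩ := hgen (πA z)
    have hmem : z - toC q ∈ 𝔓.map toC.toRingHom := by
      refine mem_of_forall_mem_sup_pow _ fun n => ?_
      set d := z - toC q
      have hd : π (πA d) = 0 := by
        rw [map_sub, map_sub, htoC, hq, sub_self]
      let qn : B := MvPowerSeries.truncTotal n d
      have h1 : d - toC qn ∈ (Ideal.span (Set.range (MvPowerSeries.X : Fin r → C))) ^ n := by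
        rw [htoC]; exact sub_truncTotal_mem n d
      have h2 : ∀ w ∈ (Ideal.span (Set.range (MvPowerSeries.X : Fin r → C))) ^ n, ∃ b ∈ (Ideal.span
          (Set.range (MvPolynomial.X : Fin r → B))) ^ n, π (πA w) = ρ b := by
        intro w hw
        have hspan : Ideal.span (Set.range (MvPowerSeries.X : Fin r → C)) =
            (Ideal.span (Set.range (MvPolynomial.X : Fin r → B))).map toC.toRingHom := by
          rw [Ideal.map_span, ← Set.range_comp]
          refine congrArg Ideal.span (congrArg Set.range (funext fun i => ?_))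
          show _ = toC (MvPolynomial.X i)
          rw [htoC, MvPolynomial.coe_X]
        rw [hspan, ← Ideal.map_pow, Ideal.map] at hw
        induction hw using Submodule.span_induction with
        | mem w hw =>
          obtain ⟨b, hb, rfl⟩ := hw
          exact ⟨b, hb, rfl⟩
        | zero => exact ⟨0, zero_mem _, by simp [ρ]⟩
        | add w w' _ _ h h' =>
          obtain ⟨b, hb, e⟩ := h
          obtain ⟨b', hb', e'⟩ := h'
          exact ⟨b + b', add_mem hb hb', by rw [map_add, map_add, e, e', map_add]⟩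
        | smul v w _ h =>
          obtain ⟨b, hb, e⟩ := h
          obtain ⟨v', hv'⟩ := hgen (πA v)
          refine ⟨v' * b, Ideal.mul_mem_left _ _ hb, ?_⟩
          rw [smul_eq_mul, map_mul, map_mul, e, map_mul ρ, ← hv', ← htoC]
          rfl
      obtain ⟨b, hb, hbq⟩ := h2 _ h1
      refine Submodule.mem_sup.2 ⟨toC (qn + b), Ideal.mem_map_of_mem _ ?_, (d - toC qn) - toC b, ?_, ?_⟩
      · show ρ (qn + b) = 0
        rw [map_add, ← hbq, map_sub, map_sub, hd, zero_sub]
        exact add_neg_cancel _
      · refine Ideal.pow_right_mono ?_ n (sub_mem h1 ?_)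
        · rw [Ideal.span_le]
          rintro _ ⟨i, rfl⟩
          exact X_mem_maximalIdeal i
        · have h5 := Ideal.mem_map_of_mem toC.toRingHom hb
          rw [Ideal.map_pow, Ideal.map_span, ← Set.range_comp] at h5
          refine Ideal.pow_right_mono (le_of_eq ?_) _ h5
          refine congrArg Ideal.span (congrArg Set.range (funext fun i => ?_))
          show toC (MvPolynomial.X i) = _
          rw [htoC, MvPolynomial.coe_X]
      · rw [map_add]; abel
    have h6 := gadd _ _ (gker _ hmem).1 (gpoly q)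
    rwa [sub_add_cancel] at h6
  choose e θ he hpd hpe using fun i => gall (σ (x i))
  have hder : ∀ E : Derivation ℤ C C, ∑ i, c i * piL (E (σ (x i))) = 0 := fun E => by
    let D₀ : Derivation ℤ A A := J2CompleteLib.mkDer (fun a => πA (E (σ a)))
      (fun a b => by rw [map_add, map_add, map_add])
      fun a b => by
        rw [map_mul, Derivation.leibniz, smul_eq_mul, smul_eq_mul, map_add, map_mul, map_mul, hsection, hsection]
    exact h D₀
  have he0 : ∀ l, ∑ i, c i * e i l = 0 := fun l => by
    have h1 := hder ((MvPowerSeries.pderiv P l).restrictScalars ℤ)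
    rw [← h1]
    refine Finset.sum_congr rfl fun i _ => ?_
    rw [← hpd]
    rfl
  let θtot : L ⊗[F] Ω[F⁄ℤ] := ∑ i, c i • θ i
  have hθ0 : θtot = 0 := by
    let bL := Module.Free.chooseBasis F L
    obtain ⟨f, hf⟩ := (TensorProduct.equivFinsuppOfBasisLeft bL).symm.surjective θtot
    have hf' : θtot = f.sum fun m w => bL m ⊗ₜ[F] w := by
      rw [← hf]; simp [TensorProduct.equivFinsuppOfBasisLeft_symm]
    suffices hz : ∀ m, f m = 0 by rw [← hf, Finsupp.ext (g := 0) hz, map_zero]
    intro m
    refine hsep (f m) fun δ δ' hδ' => ?_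
    obtain rfl : δ' = extF δ := der_ext_of_isFrac (P := P) fun a => (hδ' a).trans (hextF δ a).symm
    have h1 : pair (extF δ) θtot = 0 := by
      simp only [θtot, map_sum, map_smul, smul_eq_mul, ← hpe]
      exact hder (extC δ)
    rw [hf', Finsupp.sum, map_sum] at h1
    simp only [pair, LinearMap.liftBaseChange_tmul, LinearMap.comp_apply, Algebra.linearMap_apply] at h1
    have h2 : ∑ l ∈ f.support, ((extF δ).liftKaehlerDifferential (f l)) • bL l = 0 := by
      rw [← h1]
      exact Finset.sum_congr rfl fun l _ => by rw [Algebra.smul_def, smul_eq_mul, mul_comm]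
    by_cases hm : m ∈ f.support
    · exact linearIndependent_iff'.1 bL.linearIndependent _ _ h2 m hm
    · rw [Finsupp.notMem_support_iff.1 hm, map_zero]
  calc ∑ i, c i ⊗ₜ[A] KaehlerDifferential.D ℤ A (x i)
      = ∑ i, c i • dC (σ (x i)) := Finset.sum_congr rfl fun i _ => by
        show _ = c i • dA (πA (σ (x i)))
        rw [hsection]
        show _ = c i • ((1 : L) ⊗ₜ[A] KaehlerDifferential.D ℤ A (x i))
        rw [TensorProduct.smul_tmul', smul_eq_mul, mul_one]
    _ = ∑ l, (∑ i, c i * e i l) • u l + lam θtot := by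
        simp only [he, smul_add, Finset.sum_add_distrib, Finset.smul_sum, smul_smul, θtot, map_sum, map_smul,
          Finset.sum_smul]
        rw [Finset.sum_comm]
    _ = 0 := by simp [he0, hθ0]


/-- In characteristic `p`, what all derivations of `K[[T]]` kill at a prime is zero among the differentials there. -/
theorem detect {K : Type u} [Field K] (p : ℕ) [Fact p.Prime] [CharP K p] {r : ℕ} {L : Type u} [Field L]
    [Algebra (MvPowerSeries (Fin r) K) L] {ι : Type*} [Fintype ι] (c : ι → L)
    (x : ι → MvPowerSeries (Fin r) K)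
    (h : ∀ D : Derivation ℤ (MvPowerSeries (Fin r) K) (MvPowerSeries (Fin r) K),
      ∑ i, c i * algebraMap (MvPowerSeries (Fin r) K) L (D (x i)) = 0) :
    ∑ i, c i ⊗ₜ[MvPowerSeries (Fin r) K] KaehlerDifferential.D ℤ (MvPowerSeries (Fin r) K) (x i) =
      (0 : L ⊗[MvPowerSeries (Fin r) K] Ω[MvPowerSeries (Fin r) K⁄ℤ]) := by
  classical
  let A := MvPowerSeries (Fin r) K
  let π := algebraMap A L
  let 𝔭 := RingHom.ker π
  haveI h𝔭 : 𝔭.IsPrime := RingHom.ker_isPrime π
  let R := A ⧸ 𝔭
  haveI : Nontrivial R := Ideal.Quotient.nontrivial_iff.2 h𝔭.ne_top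
  haveI : IsLocalRing R := .of_surjective' (Ideal.Quotient.mk 𝔭) Ideal.Quotient.mk_surjective
  haveI : IsLocalHom (Ideal.Quotient.mk 𝔭) := IsLocalHom.of_surjective _ Ideal.Quotient.mk_surjective
  haveI : IsAdicComplete (maximalIdeal R) R := FiniteCompleteLib.isAdicComplete_maximalIdeal A R
  have hres : Function.Surjective ((residue R).comp (algebraMap K R)) := fun z => by
    obtain ⟨w, rfl⟩ := residue_surjective z
    obtain ⟨a, rfl⟩ := Ideal.Quotient.mk_surjective w
    refine ⟨MvPowerSeries.constantCoeff a, ?_⟩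
    show residue R (Ideal.Quotient.mk 𝔭 (algebraMap K A _)) = _
    rw [← sub_eq_zero, ← map_sub, ← map_sub, residue_eq_zero_iff]
    refine map_nonunit (Ideal.Quotient.mk 𝔭) _ ?_
    rw [mem_maximalIdeal, mem_nonunits_iff, MvPowerSeries.isUnit_iff_constantCoeff]
    rw [map_sub, ← MvPowerSeries.c_eq_algebraMap, MvPowerSeries.constantCoeff_C, sub_self]
    exact not_isUnit_zero
  obtain ⟨s, y, hy, hg⟩ := exists_params K hres
  choose x₀ hx₀ using fun i => Ideal.Quotient.mk_surjective (y i)
  have hx₀m : ∀ i, x₀ i ∈ maximalIdeal A := fun i =>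
    (mem_maximalIdeal _).2 fun hu => (mem_maximalIdeal _).1 (hy i) (hx₀ i ▸ hu.map _)
  obtain ⟨j, hj⟩ := ArtFunLib.ps_exists_lift (Λ := K) (maximalIdeal A) x₀ hx₀m
  obtain ⟨hfin, hginj, t, ht⟩ := hg ((Ideal.Quotient.mkₐ K 𝔭).comp j) fun i =>
    (congrArg (Ideal.Quotient.mk 𝔭) (hj i)).trans (hx₀ i)
  let P := MvPowerSeries (Fin s) K
  letI algPA : Algebra P A := j.toRingHom.toAlgebra
  haveI : IsScalarTower K P A := IsScalarTower.of_algHom j
  have hPR : algebraMap P R = ((Ideal.Quotient.mkₐ K 𝔭).comp j).toRingHom := rfl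
  haveI : Module.Finite P R := hfin
  letI algPL : Algebra P L := (π.comp (algebraMap P A)).toAlgebra
  haveI : IsScalarTower P A L := IsScalarTower.of_algebraMap_eq fun _ => rfl
  have hπinj : ∀ a, π a = 0 ↔ Ideal.Quotient.mk 𝔭 a = 0 := fun a =>
    (RingHom.mem_ker (f := π)).symm.trans Ideal.Quotient.eq_zero_iff_mem.symm
  haveI : FaithfulSMul P L := (faithfulSMul_iff_algebraMap_injective P L).2 (by
    rw [injective_iff_map_eq_zero]
    exact fun a ha => (injective_iff_map_eq_zero _).1 hginj a ((hπinj _).1 ha))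
  let F := FractionRing P
  letI : Algebra F L := FractionRing.liftAlgebra P L
  haveI : CharP P p := charP_of_injective_ringHom (f := MvPowerSeries.C (σ := Fin s) (R := K))
    (fun a b hab => by simpa using congrArg MvPowerSeries.constantCoeff hab) p
  haveI : CharP F p := charP_of_injective_algebraMap (IsFractionRing.injective P F) p
  -- evaluation on `P[[Y]]`
  let C := MvPowerSeries (Fin r) P
  obtain ⟨πA, hπA⟩ := ArtFunLib.ps_exists_lift (Λ := P) (maximalIdeal A) (MvPowerSeries.X : Fin r → A)
    fun i => X_mem_maximalIdeal i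
  let σ : A →+* C := MvPowerSeries.map (algebraMap K P)
  have hσX : ∀ i, σ (MvPowerSeries.X i) = MvPowerSeries.X i := fun i => MvPowerSeries.map_X _ i
  have hσC : ∀ a, σ (algebraMap K A a) = algebraMap P C (algebraMap K P a) := fun a => by
    rw [← MvPowerSeries.c_eq_algebraMap, ← MvPowerSeries.c_eq_algebraMap]
    exact MvPowerSeries.map_C _ a
  have hsection : ∀ a, πA (σ a) = a := fun a => by
    let φ : A →ₐ[K] A :=
      { πA.toRingHom.comp σ with
        commutes' := fun b => by
          show πA (σ (algebraMap K A b)) = _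
          rw [hσC, πA.commutes, ← IsScalarTower.algebraMap_apply] }
    have h1 : φ = AlgHom.id K A := algHom_ext_X φ (AlgHom.id K A)
      (fun i => by show πA (σ (MvPowerSeries.X i)) = _; rw [hσX, hπA]; rfl)
      fun i => by show πA (σ (MvPowerSeries.X i)) ∈ _; rw [hσX, hπA]; exact X_mem_maximalIdeal i
    exact AlgHom.congr_fun h1 a
  let B := MvPolynomial (Fin r) P
  let toC : B →ₐ[P] C := MvPolynomial.coeToMvPowerSeries.algHom P
  have htoC : ∀ q, toC q = (q : C) := fun q => by
    show MvPowerSeries.map (algebraMap P P) (q : C) = _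
    ext m
    simp [MvPowerSeries.coeff_map]
  let ρ : B →ₐ[P] R := ((Ideal.Quotient.mkₐ P 𝔭).comp πA).comp toC
  have hρX : ∀ i, ρ (MvPolynomial.X i) = Ideal.Quotient.mk 𝔭 (MvPowerSeries.X i) := fun i => by
    show Ideal.Quotient.mk 𝔭 (πA (toC _)) = _
    rw [htoC, MvPolynomial.coe_X, hπA]
  have hρsurj : Function.Surjective ρ := by
    rw [← AlgHom.coe_toLinearMap, ← LinearMap.range_eq_top, eq_top_iff]
    refine Submodule.le_of_le_smul_of_le_jacobson_bot (I := maximalIdeal P) Module.Finite.fg_top
      (maximalIdeal_le_jacobson _) ?_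
    rintro z -
    obtain ⟨a, rfl⟩ := Ideal.Quotient.mk_surjective z
    let q := MvPowerSeries.truncTotal t a
    have hq : ρ (MvPolynomial.map (algebraMap K P) q) = Ideal.Quotient.mk 𝔭 ((q : MvPolynomial (Fin r) K) : A) := by
      show Ideal.Quotient.mk 𝔭 (πA (toC _)) = _
      congr 1
      conv_rhs => rw [← hsection ((q : MvPolynomial (Fin r) K) : A)]
      congr 1
    have h1 : Ideal.Quotient.mk 𝔭 (a - ((q : MvPolynomial (Fin r) K) : A)) ∈ (maximalIdeal P).map (algebraMap P R) := by
      refine ht ?_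
      have h2 := Ideal.mem_map_of_mem (Ideal.Quotient.mk 𝔭) (sub_truncTotal_mem t a)
      rw [Ideal.map_pow, Ideal.map_span] at h2
      refine Ideal.pow_right_mono ?_ _ h2
      rw [Ideal.span_le]
      rintro _ ⟨_, ⟨i, rfl⟩, rfl⟩
      exact map_nonunit (Ideal.Quotient.mk 𝔭) _ (X_mem_maximalIdeal i)
    refine Submodule.mem_sup.2 ⟨ρ (MvPolynomial.map (algebraMap K P) q), ⟨_, rfl⟩,
      Ideal.Quotient.mk 𝔭 (a - ((q : MvPolynomial (Fin r) K) : A)), ?_, ?_⟩
    · rw [Ideal.smul_top_eq_map]; exact h1
    · rw [hq, map_sub, add_sub_cancel]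
  refine detect_core (P := P) (F := F) (MvPowerSeries.X : Fin r → A) πA hπA σ hsection (fun a => ?_)
    (fun θ hθ => eq_zero_of_powerSeries_derivations p s θ hθ) c x h
  obtain ⟨q, hq⟩ := hρsurj (Ideal.Quotient.mk 𝔭 a)
  refine ⟨q, ?_⟩
  rw [← sub_eq_zero, ← map_sub]
  refine (hπinj _).2 ?_
  rw [map_sub, ← hq, sub_eq_zero, ← htoC]
  rfl

end Groth.Agent.NagataJacLib
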