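import Mathlib
import Groth.Agent.NagataJacLib.Basic
import Groth.Agent.NagataJacLib.DerivDetect
import Groth.Agent.PSStructLib.Basic

/-!
Derivations over a field `k` with `[k : k^p]` finite detect differentials at every prime of a complete
regular local `k`-algebra.
-/

set_option autoImplicit false
set_option backward.isDefEq.respectTransparency false
set_option maxHeartbeats 1000000
universe u
open IsLocalRing TensorProduct

namespace Groth.Agent.NagataJacLib

attribute [local instance high] Ring.toIntAlgebra

/-- Absolute detection for a complete regular local ring of characteristic `p`. -/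
theorem detect_regular {k A : Type u} [Field k] (p : ℕ) [Fact p.Prime] [CharP k p] [CommRing A] [IsRegularLocalRing A]
    [IsAdicComplete (maximalIdeal A) A] [Algebra k A] {L : Type u} [Field L] [Algebra A L]
    {ι : Type*} [Fintype ι] (c : ι → L) (x : ι → A)
    (h : ∀ D : Derivation ℤ A A, ∑ i, c i * algebraMap A L (D (x i)) = 0) :
    ∑ i, c i ⊗ₜ[A] KaehlerDifferential.D ℤ A (x i) = (0 : L ⊗[A] Ω[A⁄ℤ]) := by
  classical
  haveI : CharP (ResidueField A) p := charP_of_injective_algebraMap (algebraMap k (ResidueField A)).injective p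
  obtain ⟨d, ⟨e⟩⟩ := PSStructLib.exists_ringEquiv A k
  let A' := MvPowerSeries (Fin d) (ResidueField A)
  letI : Algebra A' L := ((algebraMap A L).comp e.symm.toRingHom).toAlgebra
  have hal : ∀ b : A', algebraMap A' L b = algebraMap A L (e.symm b) := fun b => rfl
  let U := L ⊗[A] Ω[A⁄ℤ]
  let dd : Derivation ℤ A' U := Derivation.mk'
    (AddMonoidHom.mk' (fun b => (1 : L) ⊗ₜ[A] KaehlerDifferential.D ℤ A (e.symm b))
      fun a b => by rw [map_add, map_add, tmul_add]).toIntLinearMap fun a b => by
      show (1 : L) ⊗ₜ[A] KaehlerDifferential.D ℤ A (e.symm (a * b)) =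
        a • ((1 : L) ⊗ₜ[A] KaehlerDifferential.D ℤ A (e.symm b)) +
          b • ((1 : L) ⊗ₜ[A] KaehlerDifferential.D ℤ A (e.symm a))
      rw [map_mul, Derivation.leibniz, tmul_add, tmul_smul, tmul_smul, ← algebraMap_smul L a,
        ← algebraMap_smul L b, ← algebraMap_smul L (e.symm a), ← algebraMap_smul L (e.symm b), hal, hal]
  let Φ : L ⊗[A'] Ω[A'⁄ℤ] →ₗ[L] U := dd.liftKaehlerDifferential.liftBaseChange L
  have h0 := detect (K := ResidueField A) p c (fun i => e (x i)) fun D => by
    let D₀ : Derivation ℤ A A := Derivation.mk' (AddMonoidHom.mk' (fun a => e.symm (D (e a)))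
      fun a b => by rw [map_add, map_add, map_add]).toIntLinearMap fun a b => by
        show e.symm (D (e (a * b))) = a • e.symm (D (e b)) + b • e.symm (D (e a))
        rw [map_mul, Derivation.leibniz, smul_eq_mul, smul_eq_mul, map_add, map_mul, map_mul, e.symm_apply_apply,
          e.symm_apply_apply, smul_eq_mul, smul_eq_mul]
    exact h D₀
  have h1 := congrArg Φ h0
  rw [map_sum, map_zero] at h1
  rw [← h1]
  refine Finset.sum_congr rfl fun i _ => ?_
  refine Eq.symm ((LinearMap.liftBaseChange_tmul _ _ _ _).trans ?_)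
  rw [Derivation.liftKaehlerDifferential_comp_D]
  show c i • ((1 : L) ⊗ₜ[A] KaehlerDifferential.D ℤ A (e.symm (e (x i)))) = _
  rw [e.symm_apply_apply, TensorProduct.smul_tmul', smul_eq_mul, mul_one]

/-- The differentials of `k` are spanned by those of generators of `k` over `k^p`. -/
theorem exists_basis_kaehler {k : Type u} [Field k] (p : ℕ) [Fact p.Prime] [CharP k p] [ExpChar k p]
    (hk : Module.Finite (frobenius k p).fieldRange k) :
    ∃ (n : ℕ) (b : Fin n → k) (B : Module.Basis (Fin n) k Ω[k⁄ℤ]),
      ∀ i, B i = KaehlerDifferential.D ℤ k (b i) := by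
  classical
  obtain ⟨m, g, hg⟩ := Module.Finite.exists_fin (R := (frobenius k p).fieldRange) (M := k)
  have hspan : ∀ x : k, KaehlerDifferential.D ℤ k x ∈
      Submodule.span k (Set.range fun i => KaehlerDifferential.D ℤ k (g i)) := by
    intro x
    obtain ⟨c, rfl⟩ := (Submodule.mem_span_range_iff_exists_fun _).1 (hg.ge (Submodule.mem_top (x := x)))
    rw [map_sum]
    refine Submodule.sum_mem _ fun i _ => ?_
    obtain ⟨w, hw⟩ := (c i).2
    rw [show c i • g i = (c i : k) * g i from rfl, ← hw, frobenius_def, Derivation.leibniz, Derivation.leibniz_pow,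
      ← Nat.cast_smul_eq_nsmul k, CharP.cast_eq_zero, zero_smul, smul_zero, add_zero]
    exact Submodule.smul_mem _ _ (Submodule.subset_span ⟨i, rfl⟩)
  obtain ⟨κ, a, ha, hs, hli⟩ := exists_linearIndependent' k fun i => KaehlerDifferential.D ℤ k (g i)
  haveI : Finite κ := Finite.of_injective a ha
  obtain ⟨n, ⟨e⟩⟩ := Finite.exists_equiv_fin κ
  have htop : ⊤ ≤ Submodule.span k (Set.range ((fun i => KaehlerDifferential.D ℤ k (g i)) ∘ a)) := by
    rw [hs, ← KaehlerDifferential.span_range_derivation, Submodule.span_le]
    rintro _ ⟨x, rfl⟩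
    exact hspan x
  refine ⟨n, fun i => g (a (e.symm i)), (Module.Basis.mk hli htop).reindex e, fun i => ?_⟩
  rw [Module.Basis.reindex_apply, Module.Basis.mk_apply]
  rfl

/-- Derivations of `A` over `k` detect differentials relative to `k` at every prime. -/
theorem mem_smul_top_charP {k A : Type u} [Field k] (p : ℕ) [Fact p.Prime] [CharP k p] [ExpChar k p]
    (hk : Module.Finite (frobenius k p).fieldRange k) [CommRing A] [IsRegularLocalRing A]
    [IsAdicComplete (maximalIdeal A) A] [Algebra k A]
    (hinj : Function.Injective ((KaehlerDifferential.mapBaseChange ℤ k A).lTensor (ResidueField A)))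
    (𝔭 : Ideal A) [𝔭.IsPrime] (z : A) (hD : ∀ D : Derivation k A A, D z ∈ 𝔭) :
    KaehlerDifferential.D k (Localization.AtPrime 𝔭) (algebraMap A _ z) ∈
      maximalIdeal (Localization.AtPrime 𝔭) •
        (⊤ : Submodule (Localization.AtPrime 𝔭) Ω[Localization.AtPrime 𝔭⁄k]) := by
  classical
  obtain ⟨n, b, B, hB⟩ := exists_basis_kaehler p hk
  let a : Fin n → A := fun i => algebraMap k A (b i)
  -- derivations of `A` dual to the basis
  obtain ⟨σ, hσ⟩ := exists_minor (K := ResidueField A)
    (fun (D : Derivation ℤ A A) i => residue A (D (a i))) fun c hc => by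
    have h1 := detect_regular (k := k) p c a fun D => hc D
    have h2 : ∑ i, c i ⊗ₜ[A] ((1 : A) ⊗ₜ[k] KaehlerDifferential.D ℤ k (b i)) =
        (0 : ResidueField A ⊗[A] (A ⊗[k] Ω[k⁄ℤ])) := by
      refine hinj ?_
      rw [map_sum, map_zero]
      refine (Finset.sum_congr rfl fun i _ => ?_).trans h1
      rw [LinearMap.lTensor_tmul, KaehlerDifferential.mapBaseChange_tmul, one_smul, KaehlerDifferential.map_D]
    have h3 := congrArg (TensorProduct.AlgebraTensorModule.cancelBaseChange k A (ResidueField A) (ResidueField A)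
      Ω[k⁄ℤ]) h2
    simp only [map_sum, map_zero, TensorProduct.AlgebraTensorModule.cancelBaseChange_tmul, one_smul] at h3
    funext l
    have h4 := congrArg ((B.coord l).baseChange (ResidueField A)) h3
    have h5 := congrArg (TensorProduct.AlgebraTensorModule.rid k (ResidueField A) (ResidueField A)) h4
    simp only [map_sum, map_zero, LinearMap.baseChange_tmul, TensorProduct.AlgebraTensorModule.rid_tmul,
      ← hB, Module.Basis.coord_apply, Module.Basis.repr_self, Finsupp.single_apply] at h5
    simpa [ite_smul] using h5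
  let M : Matrix (Fin n) (Fin n) A := Matrix.of fun i l => σ i (a l)
  have hu : IsUnit M.det := by
    by_contra hu
    refine hσ ?_
    have h1 : residue A M.det = 0 := (residue_eq_zero_iff _).2 hu
    rw [RingHom.map_det] at h1
    exact h1
  let E : Fin n → Derivation ℤ A A := fun i => ∑ j, M⁻¹ i j • σ j
  have hE : ∀ i l, E i (a l) = if i = l then 1 else 0 := fun i l => by
    have h1 : (M⁻¹ * M) i l = (1 : Matrix (Fin n) (Fin n) A) i l := by rw [Matrix.nonsing_inv_mul M hu]
    rw [Matrix.one_apply] at h1
    rw [← h1, Matrix.mul_apply]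
    show (∑ j, M⁻¹ i j • σ j) (a l) = _
    rw [show (∑ j, M⁻¹ i j • σ j) (a l) = ∑ j, (M⁻¹ i j • σ j) (a l) from
      map_sum ({ toFun := fun D : Derivation ℤ A A => D (a l), map_zero' := rfl,
                 map_add' := fun _ _ => rfl } : Derivation ℤ A A →+ A) _ _]
    rfl
  -- the relation at `𝔭`
  let L := 𝔭.ResidueField
  have hker : ∀ w, algebraMap A L w = 0 ↔ w ∈ 𝔭 := fun w => Ideal.algebraMap_residueField_eq_zero
  have key := detect_regular (k := k) p (L := L)
    (fun o : Option (Fin n) => o.elim (1 : L) fun i => -algebraMap A L (E i z))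
    (fun o : Option (Fin n) => o.elim z a) fun D => by
    let D' : Derivation ℤ A A := D - ∑ l, D (a l) • E l
    have hD'v : ∀ w, D' w = D w - ∑ l, D (a l) * E l w := fun w => by
      show D w - (∑ l, D (a l) • E l) w = _
      rw [show (∑ l, D (a l) • E l) w = ∑ l, (D (a l) • E l) w from
        map_sum ({ toFun := fun D : Derivation ℤ A A => D w, map_zero' := rfl,
                   map_add' := fun _ _ => rfl } : Derivation ℤ A A →+ A) _ _]
      rfl
    have hD'a : ∀ l, D' (a l) = 0 := fun l => by
      rw [hD'v]
      simp [hE]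
    let dk : Derivation ℤ k A := Derivation.mk' (AddMonoidHom.mk' (fun c => D' (algebraMap k A c))
      fun c c' => by rw [map_add, map_add]).toIntLinearMap fun c c' => by
        show D' (algebraMap k A (c * c')) = c • D' (algebraMap k A c') + c' • D' (algebraMap k A c)
        rw [map_mul, Derivation.leibniz, ← algebraMap_smul A c, ← algebraMap_smul A c']
    have hdk : dk.liftKaehlerDifferential = 0 := B.ext fun l => by
      rw [hB, Derivation.liftKaehlerDifferential_comp_D, LinearMap.zero_apply]
      exact hD'a l
    have hkill : ∀ c, D' (algebraMap k A c) = 0 := fun c => by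
      have h1 := Derivation.liftKaehlerDifferential_comp_D dk c
      rw [hdk, LinearMap.zero_apply] at h1
      exact h1.symm
    let D'' : Derivation k A A := Derivation.mk'
      { toFun := fun w => D' w
        map_add' := fun u v => map_add D' u v
        map_smul' := fun c w => by
          rw [RingHom.id_apply, Algebra.smul_def, Algebra.smul_def, Derivation.leibniz, hkill, smul_zero, add_zero,
            smul_eq_mul] }
      fun u v => D'.leibniz u v
    have h1 : algebraMap A L (D' z) = 0 := (hker _).2 (hD D'')
    rw [hD'v, map_sub, map_sum] at h1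
    rw [Fintype.sum_option]
    simp only [Option.elim_none, Option.elim_some, one_mul, neg_mul, Finset.sum_neg_distrib, ← sub_eq_add_neg]
    rw [← h1]
    rw [sub_eq_add_neg, ← Finset.sum_neg_distrib]
    congr 1
    exact Finset.sum_congr rfl fun l _ => by rw [map_mul]; ring
  -- pass to differentials over `k`
  let f : L ⊗[A] Ω[A⁄ℤ] →ₗ[L] L ⊗[A] Ω[A⁄k] := (KaehlerDifferential.map ℤ k A A).baseChange L
  have h1 := congrArg f key
  rw [map_sum, map_zero, Fintype.sum_option] at h1
  simp only [f, Option.elim_none, Option.elim_some, LinearMap.baseChange_tmul, KaehlerDifferential.map_D,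
    Algebra.algebraMap_self, RingHom.id_apply, a, Derivation.map_algebraMap, tmul_zero, Finset.sum_const_zero,
    add_zero] at h1
  let Ap := Localization.AtPrime 𝔭
  let m0 : Ω[A⁄k] →ₗ[A] L ⊗[Ap] Ω[Ap⁄k] :=
    ((TensorProduct.mk Ap L Ω[Ap⁄k] 1).restrictScalars A) ∘ₗ KaehlerDifferential.map k k A Ap
  have h2 := congrArg (m0.liftBaseChange L) h1
  rw [map_zero, LinearMap.liftBaseChange_tmul, one_smul] at h2
  simp only [m0, LinearMap.comp_apply, KaehlerDifferential.map_D, LinearMap.restrictScalars_apply,
    TensorProduct.mk_apply] at h2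
  have h3 := congrArg (TensorProduct.quotTensorEquivQuotSMul Ω[Ap⁄k] (maximalIdeal Ap)) h2
  rw [map_zero] at h3
  rw [← Submodule.Quotient.mk_eq_zero, ← h3]
  exact (TensorProduct.quotTensorEquivQuotSMul_mk_one_tmul _ _).symm

end Groth.Agent.NagataJacLib
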