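import Mathlib
import Groth.Agent.NagataJacLib.Basic
import Groth.Agent.PSStructLib.Basic
import Groth.Agent.WildQuotLib.PSReg
import Groth.Agent.GrSegreLib.Dim
import Groth.Agent.GorLib.Heights
import Groth.Agent.RegLocLib.Basic
import Groth.Agent.RegLocal.Basic

/-!
Partial derivatives detect `p/p²` at a prime of a power series ring whose quotient is separable over a
power series subring over which it is finite.
-/

set_option autoImplicit false
universe u
open IsLocalRing

namespace Groth.Agent.NagataJacLib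

variable {k : Type u} [Field k] {r : ℕ} (p : Ideal (MvPowerSeries (Fin r) k)) [p.IsPrime]
  (L : Type u) [Field L] [Algebra (MvPowerSeries (Fin r) k ⧸ p) L]

/-- The gradient of a series, read in a field over `A/p`. -/
noncomputable def grad : MvPowerSeries (Fin r) k →+ (Fin r → L) where
  toFun a i := algebraMap (MvPowerSeries (Fin r) k ⧸ p) L (Ideal.Quotient.mk p (MvPowerSeries.pderiv k i a))
  map_zero' := funext fun i => by simp
  map_add' a b := funext fun i => by simp

theorem grad_apply (a : MvPowerSeries (Fin r) k) (i : Fin r) :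
    grad p L a i = algebraMap (MvPowerSeries (Fin r) k ⧸ p) L (Ideal.Quotient.mk p (MvPowerSeries.pderiv k i a)) := rfl

theorem grad_mul (a b : MvPowerSeries (Fin r) k) : grad p L (a * b) =
    algebraMap (MvPowerSeries (Fin r) k ⧸ p) L (Ideal.Quotient.mk p a) • grad p L b +
      algebraMap (MvPowerSeries (Fin r) k ⧸ p) L (Ideal.Quotient.mk p b) • grad p L a := by
  funext i
  simp [grad_apply, Derivation.leibniz, Algebra.smul_def]

theorem grad_mul_of_mem (a : MvPowerSeries (Fin r) k) {b : MvPowerSeries (Fin r) k} (hb : b ∈ p) :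
    grad p L (a * b) = algebraMap (MvPowerSeries (Fin r) k ⧸ p) L (Ideal.Quotient.mk p a) • grad p L b := by
  rw [grad_mul, Ideal.Quotient.eq_zero_iff_mem.2 hb, map_zero, zero_smul, add_zero]

section Span

variable {s : ℕ} [Algebra (MvPowerSeries (Fin s) k) (MvPowerSeries (Fin r) k ⧸ p)]
  [IsScalarTower k (MvPowerSeries (Fin s) k) (MvPowerSeries (Fin r) k ⧸ p)]
  [Algebra (MvPowerSeries (Fin s) k) L]
  [IsScalarTower (MvPowerSeries (Fin s) k) (MvPowerSeries (Fin r) k ⧸ p) L]

/-- Gradients of `p` and of lifts of the parameters span. -/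
theorem span_grad_eq_top [Module.Finite (MvPowerSeries (Fin s) k) (MvPowerSeries (Fin r) k ⧸ p)]
    (hinj : Function.Injective (algebraMap (MvPowerSeries (Fin s) k) (MvPowerSeries (Fin r) k ⧸ p)))
    (hLinj : Function.Injective (algebraMap (MvPowerSeries (Fin r) k ⧸ p) L))
    (hsep : ∀ a : MvPowerSeries (Fin r) k ⧸ p, ∃ Q : Polynomial (MvPowerSeries (Fin s) k),
      Polynomial.aeval a Q = 0 ∧ Polynomial.aeval a (Polynomial.derivative Q) ≠ 0)
    (x : Fin s → MvPowerSeries (Fin r) k)
    (hx : ∀ j, Ideal.Quotient.mk p (x j) = algebraMap (MvPowerSeries (Fin s) k) _ (MvPowerSeries.X j)) :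
    Submodule.span L (grad p L '' (p : Set (MvPowerSeries (Fin r) k)) ∪ Set.range fun j => grad p L (x j)) = ⊤ := by
  classical
  set U := Submodule.span L (grad p L '' (p : Set (MvPowerSeries (Fin r) k)) ∪ Set.range fun j => grad p L (x j))
  let δ : (MvPowerSeries (Fin r) k) →+ ((Fin r → L) ⧸ U) := U.mkQ.toAddMonoidHom.comp (grad p L)
  have hδ : ∀ a, δ a = U.mkQ (grad p L a) := fun a => rfl
  have hδp : ∀ a ∈ p, δ a = 0 := fun a ha =>
    (Submodule.Quotient.mk_eq_zero U).2 (Submodule.subset_span (Or.inl ⟨a, ha, rfl⟩))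
  have hδx : ∀ j, δ (x j) = 0 := fun j =>
    (Submodule.Quotient.mk_eq_zero U).2 (Submodule.subset_span (Or.inr ⟨j, rfl⟩))
  have hδC : ∀ c : k, δ (algebraMap k (MvPowerSeries (Fin r) k) c) = 0 := fun c => by
    rw [hδ, show grad p L (algebraMap k (MvPowerSeries (Fin r) k) c) = 0 from funext fun i => by simp [grad_apply], map_zero]
  have hsmul : ∀ (a : (MvPowerSeries (Fin r) k ⧸ p)) (w : (Fin r → L) ⧸ U), algebraMap (MvPowerSeries (Fin r) k ⧸ p) L a • w = a • w := fun a w =>
    algebraMap_smul L a w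
  have hδmul : ∀ a b, δ (a * b) = Ideal.Quotient.mk p a • δ b + Ideal.Quotient.mk p b • δ a := fun a b => by
    rw [hδ, grad_mul, map_add, map_smul, map_smul, hsmul, hsmul]; rfl
  haveI : Nontrivial (MvPowerSeries (Fin r) k ⧸ p) := Ideal.Quotient.nontrivial_iff.2 ‹p.IsPrime›.ne_top
  haveI : IsLocalRing (MvPowerSeries (Fin r) k ⧸ p) := .of_surjective' (Ideal.Quotient.mk p) Ideal.Quotient.mk_surjective
  haveI : IsLocalHom (Ideal.Quotient.mk p) := IsLocalHom.of_surjective _ Ideal.Quotient.mk_surjective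
  let N₀ : Submodule (MvPowerSeries (Fin r) k ⧸ p) ((Fin r → L) ⧸ U) := Submodule.span (MvPowerSeries (Fin r) k ⧸ p) (Set.range fun i => U.mkQ (Pi.single i (1 : L)))
  have hfgN : N₀.FG := Submodule.fg_span (Set.finite_range _)
  have hδN : ∀ a, δ a ∈ N₀ := fun a => by
    rw [hδ, ← Finset.univ_sum_single (grad p L a), map_sum]
    refine Submodule.sum_mem _ fun i _ => ?_
    rw [show Pi.single i (grad p L a i) = grad p L a i • (Pi.single i (1 : L) : Fin r → L) by
      rw [← Pi.single_smul', smul_eq_mul, mul_one], map_smul, grad_apply, hsmul]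
    exact Submodule.smul_mem _ _ (Submodule.subset_span ⟨i, rfl⟩)
  have hmk : ∀ n, ∀ a ∈ maximalIdeal (MvPowerSeries (Fin r) k) ^ n, Ideal.Quotient.mk p a ∈ maximalIdeal (MvPowerSeries (Fin r) k ⧸ p) ^ n := fun n a ha => by
    have h1 := Ideal.mem_map_of_mem (Ideal.Quotient.mk p) ha
    rw [Ideal.map_pow] at h1
    exact Ideal.pow_right_mono ((local_hom_TFAE (Ideal.Quotient.mk p)).out 0 2 |>.1 (by infer_instance)) n h1
  have hδpow : ∀ n, ∀ a ∈ maximalIdeal (MvPowerSeries (Fin r) k) ^ (n + 1), δ a ∈ maximalIdeal (MvPowerSeries (Fin r) k ⧸ p) ^ n • N₀ := by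
    intro n
    induction n with
    | zero => intro a _; rw [pow_zero, Ideal.one_eq_top, Submodule.top_smul]; exact hδN a
    | succ n ih =>
      intro a ha
      rw [pow_succ] at ha
      refine Submodule.mul_induction_on ha (fun y hy z hz => ?_) (fun y z hy hz => by rw [map_add]; exact add_mem hy hz)
      rw [hδmul]
      refine add_mem (Submodule.smul_mem_smul (hmk (n + 1) y hy) (hδN z)) ?_
      rw [pow_succ' (maximalIdeal (MvPowerSeries (Fin r) k ⧸ p)), ← smul_eq_mul, Submodule.smul_assoc]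
      exact Submodule.smul_mem_smul (pow_one (maximalIdeal (MvPowerSeries (Fin r) k ⧸ p)) ▸
        hmk 1 z (by rwa [pow_one])) (ih y hy)
  -- the parameters' ring is killed
  have hloc : ∀ n, ∀ f ∈ maximalIdeal (MvPowerSeries (Fin s) k) ^ n, algebraMap (MvPowerSeries (Fin s) k) (MvPowerSeries (Fin r) k ⧸ p) f ∈ maximalIdeal (MvPowerSeries (Fin r) k ⧸ p) ^ n := by
    intro n f hf
    haveI : Algebra.IsIntegral (MvPowerSeries (Fin s) k) (MvPowerSeries (Fin r) k ⧸ p) := Algebra.IsIntegral.of_finite (MvPowerSeries (Fin s) k) (MvPowerSeries (Fin r) k ⧸ p)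
    haveI : IsLocalHom (algebraMap (MvPowerSeries (Fin s) k) (MvPowerSeries (Fin r) k ⧸ p)) := (algebraMap_isIntegral_iff.mpr ‹_›).isLocalHom hinj
    have h1 := Ideal.mem_map_of_mem (algebraMap (MvPowerSeries (Fin s) k) (MvPowerSeries (Fin r) k ⧸ p)) hf
    rw [Ideal.map_pow] at h1
    exact Ideal.pow_right_mono ((local_hom_TFAE (algebraMap (MvPowerSeries (Fin s) k) (MvPowerSeries (Fin r) k ⧸ p))).out 0 2 |>.1 (by infer_instance)) n h1
  let h : MvPolynomial (Fin s) k →+* (MvPowerSeries (Fin r) k) := MvPolynomial.eval₂Hom (algebraMap k (MvPowerSeries (Fin r) k)) x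
  have hh : ∀ Q : MvPolynomial (Fin s) k, Ideal.Quotient.mk p (h Q) = algebraMap (MvPowerSeries (Fin s) k) (MvPowerSeries (Fin r) k ⧸ p) (Q : (MvPowerSeries (Fin s) k)) := fun Q =>
    DFunLike.congr_fun (MvPolynomial.ringHom_ext (f := (Ideal.Quotient.mk p).comp h)
      (g := (algebraMap (MvPowerSeries (Fin s) k) (MvPowerSeries (Fin r) k ⧸ p)).comp MvPolynomial.coeToMvPowerSeries.ringHom) (fun c => by
        simp only [RingHom.comp_apply, MvPolynomial.coeToMvPowerSeries.ringHom_apply, MvPolynomial.coe_C, h,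
          MvPolynomial.eval₂Hom_C]
        rw [MvPowerSeries.c_eq_algebraMap, ← IsScalarTower.algebraMap_apply k (MvPowerSeries (Fin s) k) (MvPowerSeries (Fin r) k ⧸ p)]
        rfl) fun j => by
        simp only [RingHom.comp_apply, MvPolynomial.coeToMvPowerSeries.ringHom_apply, MvPolynomial.coe_X, h,
          MvPolynomial.eval₂Hom_X']
        exact hx j) Q
  have hδh : ∀ Q, δ (h Q) = 0 := fun Q => by
    induction Q using MvPolynomial.induction_on with
    | C c => simp only [h, MvPolynomial.eval₂Hom_C]; exact hδC c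
    | add Q₁ Q₂ h₁ h₂ => rw [map_add, map_add, h₁, h₂, add_zero]
    | mul_X Q j hQ =>
      rw [map_mul, hδmul, hQ, smul_zero, add_zero, show h (MvPolynomial.X j) = x j by simp [h], hδx, smul_zero]
  have hkill : ∀ (f : (MvPowerSeries (Fin s) k)) (a : (MvPowerSeries (Fin r) k)), Ideal.Quotient.mk p a = algebraMap (MvPowerSeries (Fin s) k) (MvPowerSeries (Fin r) k ⧸ p) f → δ a = 0 := by
    intro f a ha
    haveI : Module.Finite (MvPowerSeries (Fin r) k ⧸ p) N₀ := Module.Finite.iff_fg.2 hfgN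
    have hb : ∀ n, δ a ∈ maximalIdeal (MvPowerSeries (Fin r) k ⧸ p) ^ n • N₀ := by
      intro n
      let Q := MvPowerSeries.truncTotal (n + 1) f
      have h1 : f - (Q : (MvPowerSeries (Fin s) k)) ∈ maximalIdeal (MvPowerSeries (Fin s) k) ^ (n + 1) := by
        have h2 := PSStructLib.mem_pow_of_truncTotal_eq_zero (n + 1) (f - (Q : (MvPowerSeries (Fin s) k))) (by
          rw [map_sub]
          ext e'
          rw [MvPolynomial.coeff_sub, MvPolynomial.coeff_zero, sub_eq_zero]
          rcases lt_or_ge e'.degree (n + 1) with hlt | hge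
          · rw [MvPowerSeries.coeff_truncTotal _ hlt, MvPowerSeries.coeff_truncTotal _ hlt, MvPolynomial.coeff_coe,
              MvPowerSeries.coeff_truncTotal _ hlt]
          · rw [MvPowerSeries.coeff_truncTotal_eq_zero _ hge, MvPowerSeries.coeff_truncTotal_eq_zero _ hge])
        rw [Ideal.map_pow] at h2
        refine Ideal.pow_right_mono ?_ _ h2
        rw [Ideal.map_span, Ideal.span_le]
        rintro _ ⟨_, ⟨i, rfl⟩, rfl⟩
        rw [SetLike.mem_coe, IsLocalRing.mem_maximalIdeal, mem_nonunits_iff]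
        intro hu
        have h3 := MvPowerSeries.isUnit_constantCoeff _ hu
        simp [MvPowerSeries.algebraMap_apply'] at h3
      have h4 : Ideal.Quotient.mk p (a - h Q) ∈ (maximalIdeal (MvPowerSeries (Fin r) k) ^ (n + 1)).map (Ideal.Quotient.mk p) := by
        have h5 : maximalIdeal (MvPowerSeries (Fin r) k ⧸ p) ≤ (maximalIdeal (MvPowerSeries (Fin r) k)).map (Ideal.Quotient.mk p) := fun z hz => by
          obtain ⟨w, rfl⟩ := Ideal.Quotient.mk_surjective z
          exact Ideal.mem_map_of_mem _ fun hw => hz (hw.map _)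
        rw [map_sub, ha, hh, ← map_sub, Ideal.map_pow]
        exact Ideal.pow_right_mono h5 _ (hloc _ _ h1)
      obtain ⟨b, hb, hb'⟩ := (Ideal.mem_map_iff_of_surjective _ Ideal.Quotient.mk_surjective).1 h4
      have h6 : δ (a - h Q - b) = 0 := hδp _ (Ideal.Quotient.eq.1 hb'.symm)
      rw [map_sub, map_sub, hδh, sub_zero, sub_eq_zero] at h6
      rw [h6]
      exact hδpow n b hb
    have h0 := Ideal.iInf_pow_smul_eq_bot_of_isLocalRing (M := N₀) (maximalIdeal (MvPowerSeries (Fin r) k ⧸ p))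
      (IsLocalRing.maximalIdeal.isMaximal (MvPowerSeries (Fin r) k ⧸ p)).ne_top
    have h1 : (⟨δ a, hδN a⟩ : N₀) ∈ ⨅ n : ℕ, maximalIdeal (MvPowerSeries (Fin r) k ⧸ p) ^ n • (⊤ : Submodule (MvPowerSeries (Fin r) k ⧸ p) N₀) := by
      refine Submodule.mem_iInf _ |>.2 fun n => ?_
      rw [← Submodule.comap_map_eq_of_injective N₀.injective_subtype (maximalIdeal (MvPowerSeries (Fin r) k ⧸ p) ^ n • (⊤ : Submodule (MvPowerSeries (Fin r) k ⧸ p) N₀)),
        Submodule.mem_comap, Submodule.map_smul'', Submodule.map_top, Submodule.range_subtype]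
      exact hb n
    rw [h0, Submodule.mem_bot] at h1
    exact congrArg Subtype.val h1
  -- descend to `(MvPowerSeries (Fin r) k)/p` and use separability
  have hwd : ∀ a b, Ideal.Quotient.mk p a = Ideal.Quotient.mk p b → δ a = δ b := fun a b hab => by
    rw [← sub_eq_zero, ← map_sub]; exact hδp _ (Ideal.Quotient.eq.1 hab)
  let σ : (MvPowerSeries (Fin r) k ⧸ p) → (MvPowerSeries (Fin r) k) := Function.surjInv Ideal.Quotient.mk_surjective
  have hσ : ∀ z, Ideal.Quotient.mk p (σ z) = z := fun z => Function.surjInv_eq Ideal.Quotient.mk_surjective z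
  let d₀ : (MvPowerSeries (Fin r) k ⧸ p) →ₗ[(MvPowerSeries (Fin s) k)] ((Fin r → L) ⧸ U) :=
    { toFun := fun z => δ (σ z)
      map_add' := fun y z => by rw [← map_add δ]; exact hwd _ _ (by rw [map_add, hσ, hσ, hσ])
      map_smul' := fun c z => by
        rw [RingHom.id_apply, hwd (σ (c • z)) (σ (algebraMap (MvPowerSeries (Fin s) k) (MvPowerSeries (Fin r) k ⧸ p) c) * σ z) (by rw [map_mul, hσ, hσ, hσ, Algebra.smul_def]),
          hδmul, hσ, hσ, hkill c _ (hσ _), smul_zero, add_zero]
        exact algebraMap_smul (MvPowerSeries (Fin r) k ⧸ p) c (δ (σ z)) }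
  let d : Derivation (MvPowerSeries (Fin s) k) (MvPowerSeries (Fin r) k ⧸ p) ((Fin r → L) ⧸ U) := Derivation.mk' d₀ fun y z => by
    show δ (σ (y * z)) = y • δ (σ z) + z • δ (σ y)
    rw [hwd (σ (y * z)) (σ y * σ z) (by rw [map_mul, hσ, hσ, hσ]), hδmul, hσ, hσ]
  have hall : ∀ a, δ a = 0 := fun a => by
    obtain ⟨Q, hQ, hQ'⟩ := hsep (Ideal.Quotient.mk p a)
    have h1 := d.map_aeval Q (Ideal.Quotient.mk p a)
    rw [hQ, map_zero, ← hsmul, show d (Ideal.Quotient.mk p a) = δ (σ (Ideal.Quotient.mk p a)) from rfl,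
      hwd (σ _) a (hσ _)] at h1
    exact (smul_eq_zero.1 h1.symm).resolve_left fun h2 => hQ' (hLinj (h2.trans (map_zero _).symm))
  rw [eq_top_iff]
  rintro v -
  rw [← Finset.univ_sum_single v]
  refine Submodule.sum_mem _ fun i _ => ?_
  rw [show Pi.single i (v i) = v i • (Pi.single i (1 : L) : Fin r → L) by rw [← Pi.single_smul', smul_eq_mul, mul_one]]
  refine Submodule.smul_mem _ _ ?_
  rw [← Submodule.Quotient.mk_eq_zero, ← hall (MvPowerSeries.X i), hδ]
  refine congrArg U.mkQ (funext fun j => ?_)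
  rw [grad_apply]
  by_cases hji : j = i
  · subst hji; rw [MvPowerSeries.pderiv_X_self, map_one, map_one, Pi.single_eq_same]
  · rw [MvPowerSeries.pderiv_X_of_ne (Ne.symm hji), map_zero, map_zero, Pi.single_eq_of_ne hji]

/-- (MvPowerSeries (Fin r) k) series in `p` whose partial derivatives all lie in `p` is in `(pA_p)²`. -/
theorem mem_sq_of_pderiv_mem [Module.Finite (MvPowerSeries (Fin s) k) (MvPowerSeries (Fin r) k ⧸ p)]
    (hinj : Function.Injective (algebraMap (MvPowerSeries (Fin s) k) (MvPowerSeries (Fin r) k ⧸ p)))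
    (hLinj : Function.Injective (algebraMap (MvPowerSeries (Fin r) k ⧸ p) L))
    (hsep : ∀ a : MvPowerSeries (Fin r) k ⧸ p, ∃ Q : Polynomial (MvPowerSeries (Fin s) k),
      Polynomial.aeval a Q = 0 ∧ Polynomial.aeval a (Polynomial.derivative Q) ≠ 0)
    (z : MvPowerSeries (Fin r) k) (hz : z ∈ p) (hzD : ∀ i, MvPowerSeries.pderiv k i z ∈ p) :
    algebraMap _ (Localization.AtPrime p) z ∈ maximalIdeal (Localization.AtPrime p) ^ 2 := by
  classical
  set Ap := Localization.AtPrime p
  haveI : IsRegularRing (MvPowerSeries (Fin r) k) := RegLocLib.isRegularRing_of_isRegularLocalRing (MvPowerSeries (Fin r) k)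
  haveI : IsRegularLocalRing Ap := inferInstance
  haveI : Nontrivial ((MvPowerSeries (Fin r) k) ⧸ p) := Ideal.Quotient.nontrivial_iff.2 ‹p.IsPrime›.ne_top
  haveI : Algebra.IsIntegral (MvPowerSeries (Fin s) k) ((MvPowerSeries (Fin r) k) ⧸ p) := Algebra.IsIntegral.of_finite _ _
  obtain ⟨h, hh⟩ : ∃ h : ℕ, p.height = h :=
    ENat.ne_top_iff_exists.mp (Ideal.height_ne_top ‹p.IsPrime›.ne_top) |>.imp fun _ hx => hx.symm
  have hsum : h + s = r := by
    have h1 := GorLib.height_add_ringKrullDim_quotient (GorLib.gorensteinLocal_of_regular (MvPowerSeries (Fin r) k)) p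
    rw [← GrSegreLib.ringKrullDim_eq_of_integral_injective _ hinj (algebraMap_isIntegral_iff.mpr inferInstance),
      WildQuotLib.ringKrullDim_eq, WildQuotLib.ringKrullDim_eq, hh] at h1
    exact_mod_cast h1
  have hspanf : (maximalIdeal Ap).spanFinrank = h := by
    have h1 := (isRegularLocalRing_iff Ap).1 inferInstance
    rw [IsLocalization.AtPrime.ringKrullDim_eq_height p Ap, hh] at h1
    exact_mod_cast h1
  obtain ⟨g, hg⟩ := RegLocal.exists_generators (R := Ap)
  choose y hy using fun l => IsLocalization.surj p.primeCompl (g l)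
  have hyp : ∀ l, (y l).1 ∈ p := fun l => by
    rw [← IsLocalization.AtPrime.to_map_mem_maximal_iff Ap p, ← hy l]
    exact Ideal.mul_mem_right _ _ (hg ▸ Ideal.subset_span ⟨l, rfl⟩)
  have hgen : maximalIdeal Ap = (Ideal.span (Set.range fun l => (y l).1)).map (algebraMap (MvPowerSeries (Fin r) k) Ap) := by
    refine le_antisymm ?_ ?_
    · refine le_trans hg.ge ?_
      rw [Ideal.span_le]
      rintro _ ⟨l, rfl⟩
      rw [SetLike.mem_coe, ← Ideal.mul_unit_mem_iff_mem _ (IsLocalization.map_units Ap (y l).2), hy]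
      exact Ideal.mem_map_of_mem _ (Ideal.subset_span ⟨l, rfl⟩)
    · rw [Ideal.map_le_iff_le_comap, Ideal.span_le]
      rintro _ ⟨l, rfl⟩
      exact (IsLocalization.AtPrime.to_map_mem_maximal_iff Ap p _).2 (hyp l)
  have hwrite : ∀ w ∈ p, ∃ t, t ∉ p ∧ ∃ a : Fin (maximalIdeal Ap).spanFinrank → (MvPowerSeries (Fin r) k), t * w = ∑ l, a l * (y l).1 := by
    intro w hw
    have h1 : algebraMap (MvPowerSeries (Fin r) k) Ap w ∈ (Ideal.span (Set.range fun l => (y l).1)).map (algebraMap (MvPowerSeries (Fin r) k) Ap) :=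
      hgen ▸ (IsLocalization.AtPrime.to_map_mem_maximal_iff Ap p _).2 hw
    obtain ⟨t, ht, htw⟩ := (IsLocalization.algebraMap_mem_map_algebraMap_iff p.primeCompl Ap _ _).1 h1
    obtain ⟨a, ha⟩ := Ideal.mem_span_range_iff_exists_fun.1 htw
    exact ⟨t, ht, a, ha.symm⟩
  have hgsum : ∀ a : Fin (maximalIdeal Ap).spanFinrank → (MvPowerSeries (Fin r) k), grad p L (∑ l, a l * (y l).1) =
      ∑ l, algebraMap ((MvPowerSeries (Fin r) k) ⧸ p) L (Ideal.Quotient.mk p (a l)) • grad p L (y l).1 := fun a => by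
    rw [map_sum]; exact Finset.sum_congr rfl fun l _ => grad_mul_of_mem p L _ (hyp l)
  choose x hx using fun j : Fin s => Ideal.Quotient.mk_surjective
    (algebraMap (MvPowerSeries (Fin s) k) ((MvPowerSeries (Fin r) k) ⧸ p) (MvPowerSeries.X j))
  let v : Fin (maximalIdeal Ap).spanFinrank ⊕ Fin s → (Fin r → L) :=
    Sum.elim (fun l => grad p L (y l).1) fun j => grad p L (x j)
  have htop : ⊤ ≤ Submodule.span L (Set.range v) := by
    rw [← span_grad_eq_top p L hinj hLinj hsep x hx, Submodule.span_le]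
    rintro _ (⟨w, hw, rfl⟩ | ⟨j, rfl⟩)
    · obtain ⟨t, ht, a, ha⟩ := hwrite w hw
      have h1 : algebraMap ((MvPowerSeries (Fin r) k) ⧸ p) L (Ideal.Quotient.mk p t) ≠ 0 := fun h0 =>
        ht (Ideal.Quotient.eq_zero_iff_mem.1 (hLinj (h0.trans (map_zero _).symm)))
      have h2 := congrArg (grad p L) ha
      rw [grad_mul_of_mem p L t hw, hgsum] at h2
      rw [SetLike.mem_coe, show grad p L w = (algebraMap ((MvPowerSeries (Fin r) k) ⧸ p) L (Ideal.Quotient.mk p t))⁻¹ •
        ∑ l, algebraMap ((MvPowerSeries (Fin r) k) ⧸ p) L (Ideal.Quotient.mk p (a l)) • v (Sum.inl l) by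
        rw [← inv_smul_smul₀ h1 (grad p L w), h2]; rfl]
      exact Submodule.smul_mem _ _ (Submodule.sum_mem _ fun l _ =>
        Submodule.smul_mem _ _ (Submodule.subset_span ⟨_, rfl⟩))
    · exact Submodule.subset_span ⟨Sum.inr j, rfl⟩
  have hli : LinearIndependent L fun l => grad p L (y l).1 :=
    (linearIndependent_of_top_le_span_of_card_eq_finrank htop (by
      rw [Fintype.card_sum, Fintype.card_fin, Fintype.card_fin, Module.finrank_fin_fun, hspanf, hsum])).comp
      Sum.inl Sum.inl_injective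
  obtain ⟨t, ht, a, ha⟩ := hwrite z hz
  have ha0 : ∀ l, a l ∈ p := fun l => by
    have h1 := congrArg (grad p L) ha
    rw [grad_mul_of_mem p L t hz, hgsum, show grad p L z = 0 from funext fun i => by
      rw [grad_apply, Ideal.Quotient.eq_zero_iff_mem.2 (hzD i), map_zero]; rfl, smul_zero] at h1
    exact Ideal.Quotient.eq_zero_iff_mem.1
      (hLinj ((Fintype.linearIndependent_iff.1 hli _ h1.symm l).trans (map_zero _).symm))
  rw [← Ideal.unit_mul_mem_iff_mem _ (IsLocalization.map_units Ap (⟨t, ht⟩ : p.primeCompl)), ← map_mul, ha,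
    map_sum]
  refine Ideal.sum_mem _ fun l _ => ?_
  rw [map_mul, pow_two]
  exact Ideal.mul_mem_mul ((IsLocalization.AtPrime.to_map_mem_maximal_iff Ap p _).2 (ha0 l))
    ((IsLocalization.AtPrime.to_map_mem_maximal_iff Ap p _).2 (hyp l))

end Span

end Groth.Agent.NagataJacLib
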