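import Mathlib
import Groth.Agent.NagataJacLib.Gradient
import Groth.Agent.NagataJacLib.Normalization
import Groth.Agent.FiniteCompleteLib.Basic
import Groth.Agent.PSStructLib.Basic
import Groth.Agent.ArtFunLib.PS
import Groth.Agent.S2452

/-!
Derivations detect `p/p²` in complete regular local rings of characteristic zero.
-/

set_option autoImplicit false
set_option backward.isDefEq.respectTransparency false
set_option maxHeartbeats 1000000
universe u
open IsLocalRing

namespace Groth.Agent.NagataJacLib

local instance {σ k : Type*} [CommRing k] [IsDomain k] : IsDomain (MvPowerSeries σ k) :=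
  NoZeroDivisors.to_isDomain _

theorem exists_separable_relation {P R : Type u} [CommRing P] [IsDomain P] [CharZero P] [CommRing R] [IsDomain R]
    [Algebra P R] [Algebra.IsIntegral P R] (hinj : Function.Injective (algebraMap P R)) (a : R) :
    ∃ Q : Polynomial P, Polynomial.aeval a Q = 0 ∧ Polynomial.aeval a (Polynomial.derivative Q) ≠ 0 := by
  classical
  obtain ⟨Q₀, hm, hQ₀⟩ := Algebra.IsIntegral.isIntegral (R := P) a
  have hex : ∃ n, ∃ Q : Polynomial P, Q ≠ 0 ∧ Q.natDegree = n ∧ Polynomial.aeval a Q = 0 :=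
    ⟨_, Q₀, hm.ne_zero, rfl, hQ₀⟩
  obtain ⟨Q, hQ0, hdeg, hQ⟩ := Nat.find_spec hex
  refine ⟨Q, hQ, fun h => ?_⟩
  have hpos : Q.natDegree ≠ 0 := fun h0 => by
    rw [Polynomial.eq_C_of_natDegree_eq_zero h0, Polynomial.aeval_C] at hQ
    refine hQ0 ?_
    rw [Polynomial.eq_C_of_natDegree_eq_zero h0, hinj (hQ.trans (map_zero _).symm), map_zero]
  refine Nat.find_min hex (m := (Polynomial.derivative Q).natDegree)
    (hdeg ▸ Polynomial.natDegree_derivative_lt hpos) ⟨_, ?_, rfl, h⟩
  intro h1
  exact hpos (Polynomial.natDegree_eq_zero_of_derivative_eq_zero h1)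

/-- Partial derivatives detect `p/p²` at every prime of power series over a field of characteristic zero. -/
theorem mem_sq_powerSeries {K : Type u} [Field K] [CharZero K] {r : ℕ} (p : Ideal (MvPowerSeries (Fin r) K))
    [p.IsPrime] (z : MvPowerSeries (Fin r) K) (hz : z ∈ p) (hzD : ∀ i, MvPowerSeries.pderiv K i z ∈ p) :
    algebraMap _ (Localization.AtPrime p) z ∈ maximalIdeal (Localization.AtPrime p) ^ 2 := by
  classical
  let A := MvPowerSeries (Fin r) K
  let R := A ⧸ p
  haveI : Nontrivial R := Ideal.Quotient.nontrivial_iff.2 ‹p.IsPrime›.ne_top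
  haveI : IsLocalRing R := .of_surjective' (Ideal.Quotient.mk p) Ideal.Quotient.mk_surjective
  haveI : IsLocalHom (Ideal.Quotient.mk p) := IsLocalHom.of_surjective _ Ideal.Quotient.mk_surjective
  haveI : IsAdicComplete (maximalIdeal R) R := FiniteCompleteLib.isAdicComplete_maximalIdeal A R
  have hres : Function.Surjective ((residue R).comp (algebraMap K R)) := fun z => by
    obtain ⟨w, rfl⟩ := residue_surjective z
    obtain ⟨a, rfl⟩ := Ideal.Quotient.mk_surjective w
    refine ⟨MvPowerSeries.constantCoeff a, ?_⟩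
    show residue R (Ideal.Quotient.mk p (algebraMap K A _)) = _
    rw [← sub_eq_zero, ← map_sub, ← map_sub, residue_eq_zero_iff]
    refine map_nonunit (Ideal.Quotient.mk p) _ ?_
    rw [mem_maximalIdeal, mem_nonunits_iff, MvPowerSeries.isUnit_iff_constantCoeff]
    rw [map_sub, ← MvPowerSeries.c_eq_algebraMap, MvPowerSeries.constantCoeff_C, sub_self]
    exact not_isUnit_zero
  obtain ⟨s, y, hy, hg⟩ := exists_params K hres
  obtain ⟨g, hgy⟩ := ArtFunLib.ps_exists_lift (Λ := K) (maximalIdeal R) y hy
  obtain ⟨hfin, hginj, -⟩ := hg g hgy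
  let P := MvPowerSeries (Fin s) K
  letI : Algebra P R := g.toRingHom.toAlgebra
  haveI : IsScalarTower K P R := IsScalarTower.of_algHom g
  haveI : Module.Finite P R := hfin
  haveI : CharZero P := charZero_of_injective_ringHom (f := MvPowerSeries.C (σ := Fin s) (R := K))
    (fun a b hab => (MvPowerSeries.constantCoeff_C a).symm.trans
      ((congrArg MvPowerSeries.constantCoeff hab).trans (MvPowerSeries.constantCoeff_C b)))
  haveI : Algebra.IsIntegral P R := Algebra.IsIntegral.of_finite P R
  exact mem_sq_of_pderiv_mem p (FractionRing R) hginj (IsFractionRing.injective R _)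
    (fun a => exists_separable_relation hginj a) z hz hzD

/-- Derivations detect `p/p²` at every prime of a complete regular local algebra of characteristic zero. -/
theorem mem_sq_charZero {k A : Type u} [Field k] [CharZero k] [CommRing A] [IsRegularLocalRing A]
    [IsAdicComplete (maximalIdeal A) A] [Algebra k A] (𝔭 : Ideal A) [𝔭.IsPrime] (z : A) (hz : z ∈ 𝔭)
    (hD : ∀ D : Derivation k A A, D z ∈ 𝔭) :
    algebraMap A (Localization.AtPrime 𝔭) z ∈ maximalIdeal (Localization.AtPrime 𝔭) ^ 2 := by
  haveI : Algebra.IsGeometricallyReduced k (ResidueField A) := FieldExtLib.isGeometricallyReduced_of_perfectField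
  obtain ⟨σ, hσ⟩ := S2452.result (k := k) (A := A)
  letI : Algebra (ResidueField A) A := σ.toRingHom.toAlgebra
  haveI : IsScalarTower k (ResidueField A) A := IsScalarTower.of_algebraMap_eq fun c => (σ.commutes c).symm
  haveI : CharZero (ResidueField A) := charZero_of_injective_algebraMap (algebraMap k (ResidueField A)).injective
  obtain ⟨d, ⟨e⟩⟩ := PSStructLib.exists_algEquiv (k := ResidueField A) (R := A) fun c => ⟨c, hσ c⟩
  let A' := MvPowerSeries (Fin d) (ResidueField A)
  let p' : Ideal A' := 𝔭.comap e.symm.toRingHom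
  haveI : p'.IsPrime := Ideal.IsPrime.comap _
  have hmem : ∀ w, w ∈ p' ↔ e.symm w ∈ 𝔭 := fun w => Iff.rfl
  have hD' : ∀ i, MvPowerSeries.pderiv (ResidueField A) i (e z) ∈ p' := fun i => by
    let E := MvPowerSeries.pderiv (ResidueField A) i (σ := Fin d)
    let D : Derivation (ResidueField A) A A :=
      Derivation.mk' (e.symm.toLinearMap ∘ₗ E.toLinearMap ∘ₗ e.toLinearMap) fun a b => by
        show e.symm (E (e (a * b))) = a • e.symm (E (e b)) + b • e.symm (E (e a))
        rw [map_mul, Derivation.leibniz, map_add, smul_eq_mul, smul_eq_mul, map_mul, map_mul, e.symm_apply_apply,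
          e.symm_apply_apply, smul_eq_mul, smul_eq_mul]
    rw [hmem]
    exact hD (D.restrictScalars k)
  have h := mem_sq_powerSeries p' (e z) (by rw [hmem, e.symm_apply_apply]; exact hz) hD'
  rw [← Localization.AtPrime.map_eq_maximalIdeal, ← Ideal.map_pow,
    IsLocalization.algebraMap_mem_map_algebraMap_iff p'.primeCompl] at h
  obtain ⟨t, ht, htz⟩ := h
  rw [← Localization.AtPrime.map_eq_maximalIdeal, ← Ideal.map_pow,
    IsLocalization.algebraMap_mem_map_algebraMap_iff 𝔭.primeCompl]
  refine ⟨e.symm t, fun h0 => ht ((hmem t).2 h0), ?_⟩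
  have h1 := Ideal.mem_map_of_mem e.symm.toRingHom htz
  rw [Ideal.map_pow] at h1
  refine Ideal.pow_right_mono (Ideal.map_comap_le (f := e.symm.toRingHom) (K := 𝔭)) 2 ?_
  convert h1 using 1
  show e.symm t * z = e.symm (t * e z)
  rw [map_mul, e.symm_apply_apply]

end Groth.Agent.NagataJacLib
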